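import Mathlib
import Cfsg.Agent.Lib.Transfer.CoreSepB
import Cfsg.Agent.Lib.Basic.ProductCard

/-!
# Odd cores of subgroups, seen in the ambient group
-/

set_option autoImplicit false
set_option linter.style.haveILetI false
set_option linter.unusedVariables false
set_option linter.unusedSectionVars false

namespace Cfsg.Agent.Lib.ProdFusion

open Subgroup Cfsg
open scoped commutatorElement
open Cfsg.Agent.Lib.Components.PComponent
open Cfsg.Agent.Lib.Transfer.CoreSep

variable {G : Type*} [Group G] [Finite G]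

/-- The core of a subgroup, as a subgroup of the ambient group. -/
abbrev oddOf (X : Subgroup G) : Subgroup G := (oddCore ↥X).map X.subtype

theorem oddOf_le (X : Subgroup G) : oddOf X ≤ X := map_subtype_le _

theorem oddOf_odd (X : Subgroup G) : Odd (Nat.card (oddOf X)) := core_odd X

theorem odd_of_le {H K : Subgroup G} (hK : Odd (Nat.card K)) (h : H ≤ K) : Odd (Nat.card H) :=
  Odd.of_dvd_nat hK (Subgroup.card_dvd_of_le h)

/-- Conjugation by the normalizer preserves the core. -/
theorem oddOf_conj {X : Subgroup G} {c y : G} (hc : c ∈ normalizer (X : Set G)) (hy : y ∈ oddOf X) :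
    c * y * c⁻¹ ∈ oddOf X := conj_mem_map_pPrimeCore 2 X c hc hy

theorem oddOf_norm {X : Subgroup G} {c : G} (hc : c ∈ normalizer (X : Set G)) :
    c ∈ normalizer (oddOf X : Set G) :=
  mem_normalizer_of_conj'
    (fun l hl => by simpa using oddOf_conj (inv_mem hc) hl) (fun l hl => oddOf_conj hc hl)

/-- An odd subgroup normalized by `X` lies in the core of `X`. -/
theorem le_oddOf {X H : Subgroup G} (hHX : H ≤ X) (hodd : Odd (Nat.card H))
    (hn : X ≤ normalizer (H : Set G)) : H ≤ oddOf X := by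
  have hN : (H.subgroupOf X).Normal := by
    refine ⟨fun x hx g => ?_⟩
    rw [mem_subgroupOf] at hx ⊢
    exact (mem_normalizer_iff.mp (hn g.2) _).mp hx
  have hp : (Nat.card (H.subgroupOf X)).Coprime 2 :=
    Nat.coprime_two_right.mpr (odd_subgroupOf hodd X)
  have h1 := le_pPrimeCore' hN hp
  intro x hx
  exact ⟨⟨x, hHX hx⟩, h1 (mem_subgroupOf.mpr hx), rfl⟩

/-- The core of a subgroup normalized by `Y` lies in the core of `Y`. -/
theorem oddOf_mono {K Y : Subgroup G} (hKY : K ≤ Y) (hn : Y ≤ normalizer (K : Set G)) :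
    oddOf K ≤ oddOf Y :=
  le_oddOf ((oddOf_le K).trans hKY) (oddOf_odd K) (fun _ hy => oddOf_norm (hn hy))

open scoped Pointwise in
/-- The product of an odd subgroup with an odd subgroup it normalizes is odd. -/
theorem odd_sup {H O : Subgroup G} (hH : Odd (Nat.card H)) (hO : Odd (Nat.card O))
    (hn : H ≤ normalizer (O : Set G)) : Odd (Nat.card ↥(H ⊔ O)) := by
  have h2 : ((H ⊔ O : Subgroup G) : Set G) = (H : Set G) * (O : Set G) :=
    Subgroup.coe_mul_of_left_le_normalizer_right H O hn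
  have h3 := Cfsg.Agent.Lib.Basic.ProductCard.ncard_mul_mul_card_inf H O
  rw [← h2] at h3
  have h4 : Nat.card ↥(H ⊔ O) = ((H ⊔ O : Subgroup G) : Set G).ncard := by
    exact (Nat.card_coe_set_eq _)
  rw [h4]
  have h5 : Odd (((H ⊔ O : Subgroup G) : Set G).ncard * Nat.card (H ⊓ O : Subgroup G)) := by
    rw [h3]
    exact hH.mul hO
  exact (Nat.odd_mul.mp h5).1

/-- An element normalizing two subgroups normalizes their join. -/
theorem sup_mem_normalizer {A B : Subgroup G} {g : G} (hA : g ∈ normalizer (A : Set G))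
    (hB : g ∈ normalizer (B : Set G)) : g ∈ normalizer ((A ⊔ B : Subgroup G) : Set G) := by
  have key : ∀ c : G, c ∈ normalizer (A : Set G) → c ∈ normalizer (B : Set G) →
      ∀ x ∈ A ⊔ B, c * x * c⁻¹ ∈ A ⊔ B := by
    intro c hcA hcB x hx
    have h1 : (A ⊔ B) ≤ (A ⊔ B).map (MulAut.conj c⁻¹).toMonoidHom := by
      refine sup_le ?_ ?_
      · intro a ha
        refine ⟨c * a * c⁻¹, (le_sup_left : A ≤ A ⊔ B) ((mem_normalizer_iff.mp hcA _).mp ha), ?_⟩
        simp
        group
      · intro a ha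
        refine ⟨c * a * c⁻¹, (le_sup_right : B ≤ A ⊔ B) ((mem_normalizer_iff.mp hcB _).mp ha), ?_⟩
        simp
        group
    obtain ⟨y, hy, hyx⟩ := h1 hx
    have : y = c * x * c⁻¹ := by
      rw [← hyx]
      simp
      group
    rwa [← this]
  exact mem_normalizer_of_conj' (fun l hl => by simpa using key _ (inv_mem hA) (inv_mem hB) l hl)
    (fun l hl => key _ hA hB l hl)

/-- Commutators in `G` from a congruence modulo a normal-like subgroup: if `⁅j, n⁆ ∈ O` and `o ∈ O`,
and `j`, `n` normalize `O`, then `⁅j, n * o⁆ ∈ O`. -/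
theorem comm_mul_mem {O : Subgroup G} {j n o : G} (hjn : ⁅j, n⁆ ∈ O) (ho : o ∈ O)
    (hj : j ∈ normalizer (O : Set G)) (hn : n ∈ normalizer (O : Set G)) : ⁅j, n * o⁆ ∈ O := by
  have e : ⁅j, n * o⁆ = ⁅j, n⁆ * (n * (j * o * j⁻¹ * o⁻¹) * n⁻¹) := by
    simp only [commutatorElement_def]; group
  rw [e]
  refine O.mul_mem hjn ?_
  refine (mem_normalizer_iff.mp hn _).mp (O.mul_mem ?_ (O.inv_mem ho))
  exact (mem_normalizer_iff.mp hj _).mp ho

/-- Elements of the group generated by `u` when `u * u = 1`. -/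
theorem mem_zpowers_of_mul_self {u a : G} (hu : u * u = 1) (ha : a ∈ zpowers u) : a = 1 ∨ a = u := by
  obtain ⟨k, rfl⟩ := mem_zpowers_iff.mp ha
  have hu2 : u ^ 2 = 1 := by rw [pow_two, hu]
  rcases Int.even_or_odd' k with ⟨m, rfl | rfl⟩
  · left
    rw [zpow_mul]
    have : u ^ (2 : ℤ) = 1 := by exact_mod_cast hu2
    rw [this, one_zpow]
  · right
    rw [zpow_add, zpow_mul]
    have : u ^ (2 : ℤ) = 1 := by exact_mod_cast hu2
    rw [this, one_zpow, one_mul, zpow_one]

theorem isPGroup_zpowers_of_mul_self {u : G} (hu : u * u = 1) : IsPGroup 2 (zpowers u) := by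
  intro x
  refine ⟨1, ?_⟩
  apply Subtype.ext
  rcases mem_zpowers_of_mul_self hu x.2 with h | h
  · simp [h]
  · simp [h, pow_two, hu]

/-- Correction by an element of an odd subgroup: if `u` fixes the coset `t O` then some `t o` commutes
with `u`. -/
theorem exists_commute_mul {O : Subgroup G} {u t : G} (hu : u * u = 1)
    (huO : u ∈ normalizer (O : Set G)) (hO : Odd (Nat.card O)) (ht : t⁻¹ * (u * t * u⁻¹) ∈ O) :
    ∃ o ∈ O, u * (t * o) = (t * o) * u := by
  have : Fact (Nat.Prime 2) := ⟨Nat.prime_two⟩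
  obtain ⟨o, ho, h⟩ := Cfsg.Agent.Lib.Transfer.CoreControl.exists_fixed_mul_of_pgroup (q := 2)
    (A := zpowers u) (N := O) (isPGroup_zpowers_of_mul_self hu)
    (fun a ha n hn => by
      rcases mem_zpowers_of_mul_self hu ha with h | h
      · simpa [h] using hn
      · rw [h]; exact (mem_normalizer_iff.mp huO _).mp hn)
    (fun h2 => (Nat.not_even_iff_odd.mpr hO) (even_iff_two_dvd.mpr h2))
    (t := t)
    (fun a ha => by
      rcases mem_zpowers_of_mul_self hu ha with h | h
      · simp [h]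
      · rw [h]; exact ht)
  refine ⟨o, ho, ?_⟩
  have h1 := h u (mem_zpowers u)
  rw [← h1]
  have h2 : u * (t * o) * u⁻¹ * u = u * (t * o) := by group
  rw [h2, h1]

/-- The fundamental trap: `K` is normalized by `Y`, `u ∈ Y` is an involution with `⁅K, u⁆ ≤ O(Y)`, and `J` is
an odd subgroup of `C_Y(u)` normalized by `C_Y(u)`. Then `J ∩ K ≤ O(Y)`. -/
theorem core_trap {Y K J : Subgroup G} {u : G} (hKY : K ≤ Y) (hKn : Y ≤ normalizer (K : Set G))
    (huY : u ∈ Y) (hu : u * u = 1) (hKu : ∀ k ∈ K, ⁅k, u⁆ ∈ oddOf Y)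
    (hJY : J ≤ Y) (hJodd : Odd (Nat.card J))
    (hJn : ∀ c ∈ Y, u * c = c * u → ∀ j ∈ J, c * j * c⁻¹ ∈ J) : J ⊓ K ≤ oddOf Y := by
  classical
  set O := oddOf Y with hO
  have hOY : O ≤ Y := oddOf_le Y
  have hOodd : Odd (Nat.card O) := oddOf_odd Y
  have hOn : ∀ {c : G}, c ∈ Y → c ∈ normalizer (O : Set G) := fun hc => oddOf_norm (le_normalizer hc)
  set Z := J ⊓ K with hZ
  have hZodd : Odd (Nat.card Z) := odd_of_le hJodd inf_le_left
  have hZY : Z ≤ Y := inf_le_left.trans hJY
  set H := Z ⊔ O with hH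
  have hHodd : Odd (Nat.card H) := odd_sup hZodd hOodd (fun z hz => hOn (hZY hz))
  set K' := K ⊔ O with hK'
  have hK'Y : K' ≤ Y := sup_le hKY hOY
  have hK'n : Y ≤ normalizer (K' : Set G) := by
    intro y hy
    have h1 : y ∈ normalizer (K : Set G) := hKn hy
    have h2 : y ∈ normalizer (O : Set G) := hOn hy
    rw [show normalizer ((K ⊔ O : Subgroup G) : Set G) = _ from rfl]
    exact Cfsg.Agent.Lib.ProdFusion.sup_mem_normalizer h1 h2
  have hHK' : H ≤ K' := sup_le (inf_le_right.trans le_sup_left) le_sup_right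
  have hK'H : K' ≤ normalizer (H : Set G) := by
    refine sup_le ?_ ?_
    · intro k hk
      have hkY := hKY hk
      have h1 : k⁻¹ * (u * k * u⁻¹) ∈ O := by
        have := hKu k⁻¹ (K.inv_mem hk)
        simpa [commutatorElement_def, mul_assoc] using this
      obtain ⟨o, ho, hc⟩ := exists_commute_mul hu (hOn huY) hOodd h1
      have hoH : o ∈ H := (le_sup_right : O ≤ H) ho
      set k' := k * o with hk'
      have hk'Y : k' ∈ Y := Y.mul_mem hkY (hOY ho)
      have hk'n : k' ∈ normalizer (H : Set G) := by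
        refine Cfsg.Agent.Lib.ProdFusion.sup_mem_normalizer ?_ (hOn hk'Y)
        refine mem_normalizer_of_conj' (fun l hl => ?_) (fun l hl => ?_)
        · refine mem_inf.mpr ⟨?_, ?_⟩
          · have := hJn k'⁻¹ (Y.inv_mem hk'Y) (by
              have e1 : u * k'⁻¹ = k'⁻¹ * (k' * u) * k'⁻¹ := by group
              rw [e1, ← hc]; group) l
              (mem_inf.mp hl).1
            simpa using this
          · have := (mem_normalizer_iff.mp (hKn (Y.inv_mem hk'Y)) _).mp (mem_inf.mp hl).2
            simpa using this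
        · refine mem_inf.mpr ⟨hJn k' hk'Y hc l (mem_inf.mp hl).1, ?_⟩
          exact (mem_normalizer_iff.mp (hKn hk'Y) _).mp (mem_inf.mp hl).2
      have e : k = k' * o⁻¹ := by rw [hk']; group
      rw [e]
      exact mul_mem hk'n (le_normalizer (H.inv_mem hoH))
    · intro o ho
      exact le_normalizer ((le_sup_right : O ≤ H) ho)
  have h3 : H ≤ oddOf K' := le_oddOf hHK' hHodd hK'H
  have h4 : oddOf K' ≤ oddOf Y := oddOf_mono hK'Y hK'n
  exact (le_sup_left : Z ≤ H).trans (h3.trans h4)

end Cfsg.Agent.Lib.ProdFusion
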