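import Mathlib
import Cfsg.Agent.Lib.ProdFusion.Core

/-!
# Commuting pairs of strongly closed subgroups, as conjugation-invariant sets
-/

set_option autoImplicit false
set_option linter.style.haveILetI false
set_option linter.unusedVariables false
set_option linter.unusedSectionVars false

namespace Cfsg.Agent.Lib.ProdFusion

open Subgroup Cfsg
open scoped commutatorElement

variable {G : Type*} [Group G] [Finite G]

/-- A commuting disjoint pair of strongly closed subgroups, in terms of the sets of all conjugates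
of their elements. -/
structure SC (C₁ C₂ : Set G) : Prop where
  conj₁ : ∀ x ∈ C₁, ∀ g : G, g * x * g⁻¹ ∈ C₁
  conj₂ : ∀ x ∈ C₂, ∀ g : G, g * x * g⁻¹ ∈ C₂
  one₁ : (1 : G) ∈ C₁
  one₂ : (1 : G) ∈ C₂
  two₁ : ∀ x ∈ C₁, ∃ k : ℕ, x ^ 2 ^ k = 1
  two₂ : ∀ x ∈ C₂, ∃ k : ℕ, x ^ 2 ^ k = 1
  mul₁ : ∀ Q : Subgroup G, IsPGroup 2 Q → ∀ x ∈ Q, ∀ y ∈ Q, x ∈ C₁ → y ∈ C₁ → x * y ∈ C₁
  mul₂ : ∀ Q : Subgroup G, IsPGroup 2 Q → ∀ x ∈ Q, ∀ y ∈ Q, x ∈ C₂ → y ∈ C₂ → x * y ∈ C₂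
  comm : ∀ Q : Subgroup G, IsPGroup 2 Q → ∀ x ∈ Q, ∀ y ∈ Q, x ∈ C₁ → y ∈ C₂ → x * y = y * x
  disj : ∀ x, x ∈ C₁ → x ∈ C₂ → x = 1

variable {C₁ C₂ : Set G}

theorem SC.symm (h : SC C₁ C₂) : SC C₂ C₁ where
  conj₁ := h.conj₂
  conj₂ := h.conj₁
  one₁ := h.one₂
  one₂ := h.one₁
  two₁ := h.two₂
  two₂ := h.two₁
  mul₁ := h.mul₂
  mul₂ := h.mul₁
  comm := fun Q hQ x hx y hy h1 h2 => (h.comm Q hQ y hy x hx h2 h1).symm
  disj := fun x h1 h2 => h.disj x h2 h1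

theorem isPGroup_zpowers_of_two {x : G} {k : ℕ} (hk : x ^ 2 ^ k = 1) : IsPGroup 2 (zpowers x) := by
  have : Fact (Nat.Prime 2) := ⟨Nat.prime_two⟩
  intro g
  obtain ⟨g, n, rfl⟩ := g
  refine ⟨k, ?_⟩
  apply Subtype.ext
  simp only [SubmonoidClass.coe_pow, Subgroup.coe_one]
  change (fun n : ℤ => x ^ n) n ^ 2 ^ k = 1
  simp only
  rw [← zpow_natCast, ← zpow_mul, mul_comm, zpow_mul, zpow_natCast, hk, one_zpow]

theorem SC.pow₁ (h : SC C₁ C₂) {x : G} (hx : x ∈ C₁) (n : ℕ) : x ^ n ∈ C₁ := by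
  obtain ⟨k, hk⟩ := h.two₁ x hx
  induction n with
  | zero => simpa using h.one₁
  | succ n ih =>
    rw [pow_succ]
    exact h.mul₁ _ (isPGroup_zpowers_of_two hk) _ (npow_mem_zpowers x n) _ (mem_zpowers x) ih hx

theorem SC.pow₂ (h : SC C₁ C₂) {x : G} (hx : x ∈ C₂) (n : ℕ) : x ^ n ∈ C₂ := h.symm.pow₁ hx n

theorem SC.inv₁ (h : SC C₁ C₂) {x : G} (hx : x ∈ C₁) : x⁻¹ ∈ C₁ := by
  have hpos := orderOf_pos x
  have e : x ^ (orderOf x - 1) * x = 1 := by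
    rw [← pow_succ, Nat.sub_add_cancel hpos, pow_orderOf_eq_one]
  rw [inv_eq_of_mul_eq_one_left e]
  exact h.pow₁ hx _

theorem SC.inv₂ (h : SC C₁ C₂) {x : G} (hx : x ∈ C₂) : x⁻¹ ∈ C₂ := h.symm.inv₁ hx

/-- The conjugation-invariant subset of the elements of a `2`-subgroup lying in `C₁`, as a subgroup. -/
def SC.T₁ (h : SC C₁ C₂) (Q : Subgroup G) (hQ : IsPGroup 2 Q) : Subgroup G where
  carrier := (Q : Set G) ∩ C₁
  mul_mem' := fun ha hb => ⟨Q.mul_mem ha.1 hb.1, h.mul₁ Q hQ _ ha.1 _ hb.1 ha.2 hb.2⟩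
  one_mem' := ⟨Q.one_mem, h.one₁⟩
  inv_mem' := fun ha => ⟨Q.inv_mem ha.1, h.inv₁ ha.2⟩

theorem SC.mem_T₁ (h : SC C₁ C₂) {Q : Subgroup G} {hQ : IsPGroup 2 Q} {x : G} :
    x ∈ h.T₁ Q hQ ↔ x ∈ Q ∧ x ∈ C₁ := Iff.rfl

/-- A `2`-subgroup `R` with a `2`-element `x` normalizing it generate a `2`-group. -/
theorem isPGroup_sup_zpowers {R : Subgroup G} (hR : IsPGroup 2 R) {x : G} {k : ℕ} (hk : x ^ 2 ^ k = 1)
    (hx : x ∈ normalizer (R : Set G)) : IsPGroup 2 ↥(R ⊔ zpowers x) := by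
  have : Fact (Nat.Prime 2) := ⟨Nat.prime_two⟩
  have := IsPGroup.to_sup_of_normal_right' (isPGroup_zpowers_of_two hk) hR
    ((zpowers_le (g := x)).mpr hx)
  rwa [sup_comm] at this

/-- Two commuting `2`-elements lie in a `2`-subgroup. -/
theorem exists_pgroup_of_comm {x y : G} {k l : ℕ} (hk : x ^ 2 ^ k = 1) (hl : y ^ 2 ^ l = 1)
    (hxy : x * y = y * x) : ∃ Q : Sylow 2 G, x ∈ (Q : Subgroup G) ∧ y ∈ (Q : Subgroup G) := by
  have : Fact (Nat.Prime 2) := ⟨Nat.prime_two⟩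
  have hn : y ∈ normalizer ((zpowers x : Subgroup G) : Set G) := by
    refine mem_normalizer_iff.mpr fun g => ?_
    have key : ∀ (c : G), Commute c x → ∀ g ∈ zpowers x, c * g * c⁻¹ ∈ zpowers x := by
      intro c hc g hg
      obtain ⟨n, rfl⟩ := mem_zpowers_iff.mp hg
      have : c * x ^ n * c⁻¹ = x ^ n := by
        rw [(hc.zpow_right n).eq]; group
      simp [this]
    refine ⟨key y (Commute.symm hxy) g, fun hg => ?_⟩
    have := key y⁻¹ (Commute.symm hxy).inv_left _ hg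
    simpa [mul_assoc] using this
  have hP := isPGroup_sup_zpowers (isPGroup_zpowers_of_two hk) hl hn
  obtain ⟨Q, hQ⟩ := hP.exists_le_sylow
  exact ⟨Q, hQ (mem_sup_left (mem_zpowers x)), hQ (mem_sup_right (mem_zpowers y))⟩

/-- Two elements of order dividing two commuting lie in a common Sylow subgroup. -/
theorem exists_sylow_of_invol {x y : G} (hx : x * x = 1) (hy : y * y = 1) (hxy : x * y = y * x) :
    ∃ Q : Sylow 2 G, x ∈ (Q : Subgroup G) ∧ y ∈ (Q : Subgroup G) :=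
  exists_pgroup_of_comm (k := 1) (l := 1) (by simpa [pow_two] using hx) (by simpa [pow_two] using hy) hxy

/-- A `2`-element lies in a Sylow subgroup. -/
theorem exists_sylow_of_two {x : G} {k : ℕ} (hk : x ^ 2 ^ k = 1) :
    ∃ Q : Sylow 2 G, x ∈ (Q : Subgroup G) := by
  have : Fact (Nat.Prime 2) := ⟨Nat.prime_two⟩
  obtain ⟨Q, hQ⟩ := (isPGroup_zpowers_of_two hk).exists_le_sylow
  exact ⟨Q, hQ (mem_zpowers x)⟩

theorem sylow_isP (Q : Sylow 2 G) : IsPGroup 2 (Q : Subgroup G) := Q.isPGroup'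

/-- The sets generated in a subgroup. -/
abbrev Nn (C : Set G) (X : Subgroup G) : Subgroup G := closure (C ∩ (X : Set G))

theorem Nn_le (C : Set G) (X : Subgroup G) : Nn C X ≤ X :=
  (closure_le _).mpr Set.inter_subset_right

theorem Nn_norm {C : Set G} (hC : ∀ x ∈ C, ∀ g : G, g * x * g⁻¹ ∈ C) {X : Subgroup G} {c : G}
    (hc : c ∈ X) : c ∈ normalizer (Nn C X : Set G) := by
  have key : ∀ d ∈ X, ∀ y ∈ Nn C X, d * y * d⁻¹ ∈ Nn C X := by
    intro d hd y hy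
    induction hy using closure_induction with
    | mem y hy => exact subset_closure ⟨hC y hy.1 d, X.mul_mem (X.mul_mem hd hy.2) (X.inv_mem hd)⟩
    | one => simp [one_mem]
    | mul x y _ _ hx hy =>
      have : d * (x * y) * d⁻¹ = (d * x * d⁻¹) * (d * y * d⁻¹) := by group
      rw [this]
      exact mul_mem hx hy
    | inv x _ hx =>
      have : d * x⁻¹ * d⁻¹ = (d * x * d⁻¹)⁻¹ := by group
      rw [this]
      exact inv_mem hx
  exact Cfsg.Agent.Lib.Transfer.CoreSep.mem_normalizer_of_conj'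
    (fun l hl => by simpa using key _ (X.inv_mem hc) l hl) (fun l hl => key _ hc l hl)

/-- The restriction of a pair to a subgroup. -/
theorem SC.restrict (h : SC C₁ C₂) (X : Subgroup G) :
    SC (Subtype.val ⁻¹' C₁ : Set X) (Subtype.val ⁻¹' C₂ : Set X) := by
  have hmap : ∀ Q : Subgroup X, IsPGroup 2 Q → IsPGroup 2 (Q.map X.subtype) := fun Q hQ =>
    hQ.map _
  refine ⟨?_, ?_, h.one₁, h.one₂, ?_, ?_, ?_, ?_, ?_, ?_⟩
  · intro x hx g
    simpa using h.conj₁ _ hx g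
  · intro x hx g
    simpa using h.conj₂ _ hx g
  · intro x hx
    obtain ⟨k, hk⟩ := h.two₁ _ hx
    exact ⟨k, Subtype.ext (by simpa using hk)⟩
  · intro x hx
    obtain ⟨k, hk⟩ := h.two₂ _ hx
    exact ⟨k, Subtype.ext (by simpa using hk)⟩
  · intro Q hQ x hx y hy h1 h2
    exact h.mul₁ _ (hmap Q hQ) _ ⟨x, hx, rfl⟩ _ ⟨y, hy, rfl⟩ h1 h2
  · intro Q hQ x hx y hy h1 h2
    exact h.mul₂ _ (hmap Q hQ) _ ⟨x, hx, rfl⟩ _ ⟨y, hy, rfl⟩ h1 h2
  · intro Q hQ x hx y hy h1 h2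
    exact Subtype.ext (h.comm _ (hmap Q hQ) _ ⟨x, hx, rfl⟩ _ ⟨y, hy, rfl⟩ h1 h2)
  · intro x h1 h2
    exact Subtype.ext (h.disj _ h1 h2)

/-- The image of the closure in the subgroup is the closure of the part of the set in the subgroup. -/
theorem map_closure_preimage (C : Set G) (X : Subgroup G) :
    (closure (Subtype.val ⁻¹' C : Set X)).map X.subtype = Nn C X := by
  rw [MonoidHom.map_closure]
  congr 1
  ext x
  constructor
  · rintro ⟨y, hy, rfl⟩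
    exact ⟨hy, y.2⟩
  · rintro ⟨h1, h2⟩
    exact ⟨⟨x, h2⟩, h1, rfl⟩

/-- Involutions in the pair. -/
theorem invol_orderOf {x : G} (hx : x * x = 1) (hx1 : x ≠ 1) : orderOf x = 2 :=
  orderOf_eq_prime (by simpa [pow_two] using hx) hx1

/-- Isolation: if `f, z ∈ Q` and `g` fixes `f z`, with `g f g⁻¹ ∈ Q`, then `g` fixes `f`. -/
theorem SC.iso_of_prod (h : SC C₁ C₂) {Q : Subgroup G} (hQ : IsPGroup 2 Q) {f z g : G} (hf : f ∈ C₁) (hz : z ∈ C₂)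
    (hfQ : f ∈ Q) (hzQ : z ∈ Q) (hgt : g * (f * z) * g⁻¹ = f * z) (hg : g * f * g⁻¹ ∈ Q) :
    g * f * g⁻¹ = f := by
  have hf' : g * f * g⁻¹ ∈ C₁ := h.conj₁ f hf g
  have hz' : g * z * g⁻¹ ∈ C₂ := h.conj₂ z hz g
  have e : (g * f * g⁻¹) * (g * z * g⁻¹) = f * z := by
    rw [← hgt]; group
  have hzQ' : g * z * g⁻¹ ∈ Q := by
    have : g * z * g⁻¹ = (g * f * g⁻¹)⁻¹ * (f * z) := by rw [← e]; group
    rw [this]
    exact Q.mul_mem (Q.inv_mem hg) (Q.mul_mem hfQ hzQ)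
  have h1 : f⁻¹ * (g * f * g⁻¹) ∈ C₁ :=
    h.mul₁ Q hQ _ (Q.inv_mem hfQ) _ hg (h.inv₁ hf) hf'
  have h2 : z * (g * z * g⁻¹)⁻¹ ∈ C₂ :=
    h.mul₂ Q hQ _ hzQ _ (Q.inv_mem hzQ') hz (h.inv₂ hz')
  have e2 : f⁻¹ * (g * f * g⁻¹) = z * (g * z * g⁻¹)⁻¹ := by
    have : g * f * g⁻¹ = f * z * (g * z * g⁻¹)⁻¹ := by rw [← e]; group
    rw [this]; group
  have h3 := h.disj _ h1 (e2 ▸ h2)
  have : g * f * g⁻¹ = f * (f⁻¹ * (g * f * g⁻¹)) := by group
  rw [this, h3, mul_one]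

end Cfsg.Agent.Lib.ProdFusion
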