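import Mathlib
import Cfsg.Agent.Lib.ProdFusion.Basic
import Cfsg.Agent.S0215
import Cfsg.Agent.Lib.Signalizer.TwoCore

/-!
# The local context of the induction
-/

set_option autoImplicit false
set_option linter.style.haveILetI false
set_option linter.unusedVariables false
set_option linter.unusedSectionVars false

namespace Cfsg.Agent.Lib.ProdFusion

open Subgroup Cfsg
open scoped commutatorElement
open Cfsg.Agent.Lib.Components.PComponent
open Cfsg.Agent.Lib.Transfer.CoreSep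

variable {G : Type*} [Group G] [Finite G]

/-- The context of the induction step. -/
structure Ctx (C₁ C₂ : Set G) : Prop where
  sc : SC C₁ C₂
  core : oddCore G = ⊥
  nc₁ : ∀ e ∈ C₁, e * e = 1 → e ≠ 1 → ∃ g : G, g * e ≠ e * g
  nc₂ : ∀ e ∈ C₂, e * e = 1 → e ≠ 1 → ∃ g : G, g * e ≠ e * g
  ih : ∀ X : Subgroup G, X ≠ ⊤ →
    ⁅closure (Subtype.val ⁻¹' C₁ : Set X), closure (Subtype.val ⁻¹' C₂ : Set X)⁆ ≤ oddCore ↥X

variable {C₁ C₂ : Set G}

theorem commutator_inv_mem {O : Subgroup G} {a b : G} (h : ⁅a, b⁆ ∈ O) : ⁅b, a⁆ ∈ O := by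
  have : ⁅b, a⁆ = ⁅a, b⁆⁻¹ := by
    simp only [commutatorElement_def]; group
  rw [this]
  exact O.inv_mem h

theorem Ctx.symm (h : Ctx C₁ C₂) : Ctx C₂ C₁ where
  sc := h.sc.symm
  core := h.core
  nc₁ := h.nc₂
  nc₂ := h.nc₁
  ih := fun X hX => by
    rw [Subgroup.commutator_comm]
    exact h.ih X hX

/-- The elementwise form of the induction hypothesis. -/
theorem Ctx.ih_elem (h : Ctx C₁ C₂) {X : Subgroup G} (hX : X ≠ ⊤) {a b : G} (ha : a ∈ Nn C₁ X)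
    (hb : b ∈ Nn C₂ X) : ⁅a, b⁆ ∈ oddOf X := by
  rw [← map_closure_preimage] at ha hb
  obtain ⟨a', ha', rfl⟩ := ha
  obtain ⟨b', hb', rfl⟩ := hb
  exact ⟨⁅a', b'⁆, h.ih X hX (commutator_mem_commutator ha' hb'), rfl⟩

theorem mem_Nn {C : Set G} {X : Subgroup G} {x : G} (h1 : x ∈ C) (h2 : x ∈ X) : x ∈ Nn C X :=
  subset_closure ⟨h1, h2⟩

theorem oddCore_eq_bot_iff_oddOf_top : oddOf (⊤ : Subgroup G) ≤ ⊥ ↔ oddCore G = ⊥ := by
  constructor
  · intro h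
    have h1 := Cfsg.Agent.Lib.Components.Transport.pPrimeCore_map_equiv 2 (Subgroup.topEquiv (G := G))
    rw [eq_bot_iff] at *
    intro x hx
    have hx2 : x ∈ (pPrimeCore 2 ↥(⊤ : Subgroup G)).map (Subgroup.topEquiv (G := G)).toMonoidHom := by
      rw [h1]; exact hx
    obtain ⟨y, hy, rfl⟩ := hx2
    exact h ⟨y, hy, rfl⟩
  · intro h
    have h1 := Cfsg.Agent.Lib.Components.Transport.pPrimeCore_map_equiv 2 (Subgroup.topEquiv (G := G))
    have hO2 : pPrimeCore 2 G = ⊥ := h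
    rw [hO2] at h1
    rw [Subgroup.map_eq_bot_iff_of_injective _ (Subgroup.topEquiv (G := G)).injective] at h1
    change Subgroup.map _ (pPrimeCore 2 ↥(⊤ : Subgroup G)) ≤ ⊥
    rw [h1]
    simp

/-- An odd normal subgroup is trivial. -/
theorem Ctx.odd_normal_eq_bot (h : Ctx C₁ C₂) {H : Subgroup G} (hodd : Odd (Nat.card H))
    (hn : ∀ g : G, ∀ x ∈ H, g * x * g⁻¹ ∈ H) : H = ⊥ := by
  have hN : H.Normal := ⟨fun x hx g => hn g x hx⟩
  have := le_pPrimeCore' (p := 2) hN (Nat.coprime_two_right.mpr hodd)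
  rw [eq_bot_iff]
  refine this.trans ?_
  exact h.core.le

/-- Glauberman's `Z*`, elementwise. -/
theorem zstar_elem {Γ : Type*} [Group Γ] [Finite Γ] (Q : Sylow 2 Γ) {u : Γ} (hu : u * u = 1) (hu1 : u ≠ 1)
    (huQ : u ∈ (Q : Subgroup Γ)) (hiso : ∀ g : Γ, g * u * g⁻¹ ∈ (Q : Subgroup Γ) → g * u * g⁻¹ = u) (g : Γ) :
    u * g * u⁻¹ * g⁻¹ ∈ oddCore Γ := by
  obtain ⟨N, hN, hodd, h⟩ := Cfsg.Agent.S0215.result Q u (invol_orderOf hu hu1) huQ hiso
  exact le_pPrimeCore' (p := 2) hN (Nat.coprime_two_right.mpr hodd) (h g)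

/-- Central elements of `f z` type are trivial. -/
theorem Ctx.not_central (h : Ctx C₁ C₂) {f z : G} (hf : f ∈ C₁) (hz : z ∈ C₂) (hf2 : f * f = 1) (hz2 : z * z = 1)
    (hfz : f * z = z * f) (hne : f * z ≠ 1) : ∃ g : G, g * (f * z) ≠ (f * z) * g := by
  classical
  by_contra hcon
  push Not at hcon
  by_cases hf1 : f = 1
  · subst hf1
    have hz1 : z ≠ 1 := by simpa using hne
    obtain ⟨g, hg⟩ := h.nc₂ z hz hz2 hz1
    apply hg
    simpa using hcon g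
  obtain ⟨Q, hfQ, hzQ⟩ := exists_sylow_of_invol hf2 hz2 hfz
  have hiso : ∀ g : G, g * f * g⁻¹ ∈ (Q : Subgroup G) → g * f * g⁻¹ = f := by
    intro g hg
    refine h.sc.iso_of_prod (sylow_isP Q) hf hz hfQ hzQ ?_ hg
    rw [hcon g]; group
  obtain ⟨g, hg⟩ := h.nc₁ f hf hf2 hf1
  apply hg
  have h1 := zstar_elem Q hf2 hf1 hfQ hiso g
  rw [h.core, mem_bot] at h1
  have e : f * g = (f * g * f⁻¹ * g⁻¹) * (g * f) := by group
  rw [h1, one_mul] at e
  exact e.symm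

/-- A centralizer of a non-central element is proper. -/
theorem centralizer_ne_top_of {a : G} (h : ∃ g : G, g * a ≠ a * g) : centralizer ({a} : Set G) ≠ ⊤ := by
  intro htop
  obtain ⟨g, hg⟩ := h
  have : g ∈ centralizer ({a} : Set G) := by rw [htop]; exact mem_top g
  exact hg ((mem_Cg.mp this))

/-- `f` is isolated in `C(f z)`: `[f, C(f z)] ≤ O(C(f z))`. -/
theorem Ctx.zstar_t (h : Ctx C₁ C₂) {f z : G} (hf : f ∈ C₁) (hz : z ∈ C₂) (hf2 : f * f = 1) (hz2 : z * z = 1)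
    (hfz : f * z = z * f) (hf1 : f ≠ 1) {c : G} (hc : c ∈ Cg (f * z)) :
    f * c * f⁻¹ * c⁻¹ ∈ Og (f * z) := by
  classical
  have : Fact (Nat.Prime 2) := ⟨Nat.prime_two⟩
  have hft : f ∈ Cg (f * z) := mem_Cg.mpr (by rw [← mul_assoc, hf2, one_mul, hfz, mul_assoc, hf2, mul_one])
  have hzt : z ∈ Cg (f * z) := mem_Cg.mpr (by rw [← mul_assoc, ← hfz])
  let fΓ : ↥(Cg (f * z)) := ⟨f, hft⟩
  let zΓ : ↥(Cg (f * z)) := ⟨z, hzt⟩
  obtain ⟨Q, hfQ, hzQ⟩ := exists_sylow_of_invol (x := fΓ) (y := zΓ) (Subtype.ext hf2) (Subtype.ext hz2)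
    (Subtype.ext hfz)
  have hQP : IsPGroup 2 ((Q : Subgroup ↥(Cg (f * z))).map (Cg (f * z)).subtype) := (sylow_isP Q).map _
  have hiso : ∀ g : ↥(Cg (f * z)), g * fΓ * g⁻¹ ∈ (Q : Subgroup ↥(Cg (f * z))) → g * fΓ * g⁻¹ = fΓ := by
    intro g hg
    apply Subtype.ext
    refine h.sc.iso_of_prod hQP hf hz ⟨fΓ, hfQ, rfl⟩ ⟨zΓ, hzQ, rfl⟩ ?_ ⟨_, hg, rfl⟩
    have := mem_Cg.mp g.2
    change (g : G) * (f * z) * (g : G)⁻¹ = f * z
    rw [this]; group
  have h1 := zstar_elem Q (u := fΓ) (Subtype.ext hf2) (fun e => hf1 (congrArg Subtype.val e)) hfQ hiso ⟨c, hc⟩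
  exact ⟨_, h1, rfl⟩

/-- The dihedral group generated by two involutions of the two sets. -/
theorem SC.dihedral (h : SC C₁ C₂) {x y : G} (hx : x ∈ C₁) (hy : y ∈ C₂) (hx2 : x * x = 1) (hy2 : y * y = 1) :
    ∃ y' c : G, y' ∈ C₂ ∧ y = c * y' * c⁻¹ ∧ c ∈ zpowers ⁅x, y⁆ ∧ x * y' = y' * x ∧
      (x * y') * y = y * (x * y') ∧ Odd (orderOf ⁅x, y⁆) := by
  classical
  set s := x * y with hs
  have hxi : x⁻¹ = x := inv_eq_of_mul_eq_one_left hx2
  have hyi : y⁻¹ = y := inv_eq_of_mul_eq_one_left hy2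
  have hsi : s⁻¹ = y * x := by rw [hs, mul_inv_rev, hxi, hyi]
  have hw : ⁅x, y⁆ = s * s := by
    rw [commutatorElement_def, hxi, hyi, hs]; group
  have hxs : SemiconjBy x s s⁻¹ := by
    change x * s = s⁻¹ * x
    rw [hsi, hs, ← mul_assoc, hx2, one_mul, mul_assoc, hx2, mul_one]
  have hys : SemiconjBy y s s⁻¹ := by
    change y * s = s⁻¹ * y
    rw [hsi, hs, mul_assoc]
  have hxk : ∀ k : ℤ, x * s ^ k = s ^ (-k) * x := by
    intro k
    have := (hxs.zpow_right k).eq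
    rwa [inv_zpow', ] at this
  have hyk : ∀ k : ℤ, y * s ^ k = s ^ (-k) * y := by
    intro k
    have := (hys.zpow_right k).eq
    rwa [inv_zpow', ] at this
  have hn : orderOf s ≠ 0 := (orderOf_pos s).ne'
  obtain ⟨a, m, hm, hnm⟩ := Nat.exists_eq_two_pow_mul_odd hn
  obtain ⟨l, hl⟩ := hm
  set r := s ^ (m : ℤ) with hr
  have hmz : (m : ℤ) = 2 * l + 1 := by rw [hl]; push_cast; ring
  have hr2a : r ^ 2 ^ a = 1 := by
    rw [hr, ← zpow_natCast, ← zpow_mul]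
    have : ((m : ℤ) * ((2 ^ a : ℕ) : ℤ)) = ((orderOf s : ℕ) : ℤ) := by
      rw [hnm]; push_cast; ring
    rw [this, zpow_natCast, pow_orderOf_eq_one]
  set y'' := s ^ (-(l : ℤ)) * y * s ^ (l : ℤ) with hy''
  have hy''C : y'' ∈ C₂ := by
    have := h.conj₂ y hy (s ^ (-(l : ℤ)))
    rwa [zpow_neg, inv_inv, ← zpow_neg] at this
  have hy''e : y'' = s ^ (-(2 * l : ℤ)) * y := by
    rw [hy'', mul_assoc, hyk, ← mul_assoc, ← zpow_add]
    congr 2
    ring
  have hxy'' : x * y'' = r := by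
    rw [hy''e, ← mul_assoc, hxk, mul_assoc, ← hs, ← zpow_add_one, hr, hmz]
    congr 1
    ring
  have hy''x : y'' = x * r := by
    rw [← hxy'', ← mul_assoc, hx2, one_mul]
  have hrn : x ∈ normalizer ((zpowers r : Subgroup G) : Set G) := by
    have key : ∀ g ∈ zpowers r, x * g * x⁻¹ ∈ zpowers r := by
      intro g hg
      obtain ⟨k, rfl⟩ := mem_zpowers_iff.mp hg
      have : x * r ^ k * x⁻¹ = (r ^ k)⁻¹ := by
        rw [hr, ← zpow_mul, hxk, ← zpow_neg]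
        simp [mul_assoc]
      rw [this]
      exact inv_mem hg
    exact Cfsg.Agent.Lib.Transfer.CoreSep.mem_normalizer_of_conj'
      (fun g hg => by simpa [hxi] using key g hg) key
  have hQ := isPGroup_sup_zpowers (R := zpowers r) (isPGroup_zpowers_of_two hr2a) (k := 1)
    (by simpa [pow_two] using hx2) hrn
  have hxQ : x ∈ zpowers r ⊔ zpowers x := mem_sup_right (mem_zpowers x)
  have hrQ : r ∈ zpowers r ⊔ zpowers x := mem_sup_left (mem_zpowers r)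
  have hc := h.comm _ hQ x hxQ y'' (by rw [hy''x]; exact mul_mem hxQ hrQ) hx hy''C
  have hrinv : s ^ (-(m : ℤ)) = r⁻¹ := by rw [hr, zpow_neg]
  have hxr : x * r * x = r⁻¹ := by
    rw [hr, hxk, mul_assoc, hx2, mul_one, zpow_neg]
  have hr2 : r * r = 1 := by
    have h1 : r = x * r * x := by
      calc r = x * (x * r) := by rw [← mul_assoc, hx2, one_mul]
        _ = x * y'' := by rw [hy''x]
        _ = y'' * x := hc
        _ = x * r * x := by rw [hy''x]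
    have h2 : r = r⁻¹ := h1.trans hxr
    calc r * r = r⁻¹ * r := by rw [← h2]
      _ = 1 := inv_mul_cancel r
  have hrii : r⁻¹ = r := inv_eq_of_mul_eq_one_left hr2
  have hr2z : s ^ (2 * (m : ℤ)) = 1 := by
    rw [two_mul, zpow_add]
    exact hr2
  have hy''k : ∀ j : ℤ, y'' * s ^ j = s ^ (-j) * y'' := by
    intro j
    rw [hy''e, mul_assoc, hyk, ← mul_assoc, ← mul_assoc, ← zpow_add, ← zpow_add, add_comm]
  have hcpow : ∀ n : ℕ, (s * s) ^ n = s ^ (2 * (n : ℤ)) := by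
    intro n
    rw [← pow_two, ← pow_mul, ← zpow_natCast]
    push_cast
    rfl
  refine ⟨y'', (s * s) ^ (l * (l + 1)), hy''C, ?_, ?_, hc, ?_, ?_⟩
  · rw [hcpow, ← zpow_neg, mul_assoc, hy''k, ← mul_assoc, ← zpow_add, hy''e, ← mul_assoc, ← zpow_add]
    have e : (2 * ((l * (l + 1) : ℕ) : ℤ) + -(-(2 * ((l * (l + 1) : ℕ) : ℤ))) + -(2 * (l : ℤ))) =
        2 * (m : ℤ) * (l : ℤ) := by
      rw [hmz]; push_cast; ring
    rw [e, zpow_mul, hr2z, one_zpow, one_mul]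
  · rw [hw]
    exact npow_mem_zpowers _ _
  · rw [hxy'']
    have h1 : y * r = s ^ (-(m : ℤ)) * y := hyk _
    rw [h1, hrinv, hrii]
  · have h1 : orderOf ⁅x, y⁆ ∣ m := by
      refine orderOf_dvd_of_pow_eq_one ?_
      rw [hw, hcpow]
      exact hr2z
    exact Odd.of_dvd_nat ⟨l, hl⟩ h1

end Cfsg.Agent.Lib.ProdFusion
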