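import Mathlib
import Cfsg.Agent.Lib.ProdFusion.Ctx
import Cfsg.Agent.Lib.Components.Basic

/-!
# Four-groups in the two sets; separation
-/

set_option autoImplicit false
set_option linter.style.haveILetI false
set_option linter.unusedVariables false
set_option linter.unusedSectionVars false

namespace Cfsg.Agent.Lib.ProdFusion

open Subgroup Cfsg
open scoped commutatorElement
open Cfsg.Agent.Lib.Components.PComponent
open Cfsg.Agent.Lib.Transfer.CoreSep
open scoped Pointwise

variable {G : Type*} [Group G] [Finite G]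

variable {C₁ C₂ : Set G}

/-- The group generated by two commuting involutions. -/
abbrev klein (f e : G) : Subgroup G := closure {f, e}

theorem klein_mem {f e : G} (hf : f * f = 1) (he : e * e = 1) (hc : f * e = e * f) {g : G}
    (hg : g ∈ klein f e) : g = 1 ∨ g = f ∨ g = e ∨ g = f * e := by
  induction hg using closure_induction with
  | mem y hy =>
    rcases hy with rfl | rfl
    · exact Or.inr (Or.inl rfl)
    · exact Or.inr (Or.inr (Or.inl rfl))
  | one => exact Or.inl rfl
  | mul x y _ _ hx hy =>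
    have t1 : f * (f * e) = e := by rw [← mul_assoc, hf, one_mul]
    have t2 : e * (f * e) = f := by rw [hc, ← mul_assoc, he, one_mul]
    have t3 : (f * e) * f = e := by rw [hc, mul_assoc, hf, mul_one]
    have t4 : (f * e) * e = f := by rw [mul_assoc, he, mul_one]
    have t5 : (f * e) * (f * e) = 1 := by
      rw [mul_assoc, ← mul_assoc e, ← hc, mul_assoc f, he, mul_one, hf]
    have t6 : e * f = f * e := hc.symm
    rcases hx with hx | hx | hx | hx <;> rcases hy with hy | hy | hy | hy <;> rw [hx, hy] <;>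
      simp only [one_mul, mul_one, hf, he, t1, t2, t3, t4, t5, t6, true_or, or_true]
  | inv x _ hx =>
    have hi1 : f⁻¹ = f := inv_eq_of_mul_eq_one_left hf
    have hi2 : e⁻¹ = e := inv_eq_of_mul_eq_one_left he
    rcases hx with rfl | rfl | rfl | rfl
    · simp
    · rw [hi1]; exact Or.inr (Or.inl rfl)
    · rw [hi2]; exact Or.inr (Or.inr (Or.inl rfl))
    · right; right; right
      rw [mul_inv_rev, hi1, hi2, hc]

theorem klein_f_mem (f e : G) : f ∈ klein f e := subset_closure (by simp)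
theorem klein_e_mem (f e : G) : e ∈ klein f e := subset_closure (by simp)

/-- The four-group is elementary abelian. -/
theorem klein_ea {f e : G} (hf : f * f = 1) (he : e * e = 1) (hc : f * e = e * f) :
    IsElementaryAbelian 2 (klein f e) := by
  have hcomm : ∀ x ∈ klein f e, ∀ y ∈ klein f e, x * y = y * x := by
    intro x hx y hy
    have c : Commute f e := hc
    have : Commute x y := by
      rcases klein_mem hf he hc hx with hx | hx | hx | hx <;>
        rcases klein_mem hf he hc hy with hy | hy | hy | hy <;> rw [hx, hy] <;>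
        first
          | exact Commute.one_left _
          | exact Commute.one_right _
          | exact Commute.refl _
          | exact c
          | exact c.symm
          | exact (Commute.refl f).mul_right c
          | exact c.symm.mul_right (Commute.refl e)
          | exact (Commute.refl f).mul_left c.symm
          | exact c.mul_left (Commute.refl e)
    exact this
  refine ⟨⟨⟨fun a b => Subtype.ext (hcomm _ a.2 _ b.2)⟩⟩, ?_⟩
  intro x hx
  rcases klein_mem hf he hc hx with rfl | rfl | rfl | rfl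
  · simp
  · simpa [pow_two] using hf
  · simpa [pow_two] using he
  · rw [pow_two, mul_assoc, ← mul_assoc e, ← hc, mul_assoc f, he, mul_one, hf]

/-- The four-group has order four. -/
theorem klein_card {f e : G} (hf : f * f = 1) (he : e * e = 1) (hc : f * e = e * f) (hf1 : f ≠ 1)
    (he1 : e ≠ 1) (hne : f ≠ e) : Nat.card (klein f e) = 4 := by
  classical
  have hset : ((klein f e : Subgroup G) : Set G) = (({1, f, e, f * e} : Finset G) : Set G) := by
    ext g
    simp only [SetLike.mem_coe, Finset.coe_insert, Finset.coe_singleton, Set.mem_insert_iff,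
      Set.mem_singleton_iff]
    constructor
    · exact klein_mem hf he hc
    · rintro (rfl | rfl | rfl | rfl)
      · exact one_mem _
      · exact klein_f_mem _ _
      · exact klein_e_mem _ _
      · exact mul_mem (klein_f_mem _ _) (klein_e_mem _ _)
  have h1 : Nat.card (klein f e) = (({1, f, e, f * e} : Finset G) : Set G).ncard := by
    rw [← hset]
    exact (Nat.card_coe_set_eq _)
  rw [h1, Set.ncard_coe_finset]
  have hfe1 : f * e ≠ 1 := by
    intro h
    apply hne
    have : e = f := by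
      calc e = f * f * e := by rw [hf, one_mul]
        _ = f * (f * e) := mul_assoc _ _ _
        _ = f := by rw [h, mul_one]
    exact this.symm
  have hfe2 : f * e ≠ f := fun h => he1 (by simpa using h)
  have hfe3 : f * e ≠ e := fun h => hf1 (by simpa using h)
  rw [Finset.card_insert_of_notMem, Finset.card_insert_of_notMem, Finset.card_insert_of_notMem,
    Finset.card_singleton]
  · simpa using hfe3.symm
  · simp only [Finset.mem_insert, Finset.mem_singleton, not_or]
    exact ⟨hne, hfe2.symm⟩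
  · simp only [Finset.mem_insert, Finset.mem_singleton, not_or]
    exact ⟨hf1.symm, he1.symm, hfe1.symm⟩

/-- Elements of the join of commuting groups. -/
theorem mem_sup_comm {A B : Subgroup G} (hc : ∀ x ∈ A, ∀ y ∈ B, x * y = y * x) {a : G} (ha : a ∈ A ⊔ B) :
    ∃ p ∈ A, ∃ q ∈ B, a = p * q := by
  have h1 : A ≤ normalizer (B : Set G) := fun x hx =>
    centralizer_le_normalizer' B (mem_centralizer_iff.mpr fun y hy => (hc x hx y hy).symm)
  have h2 : ((A ⊔ B : Subgroup G) : Set G) = (A : Set G) * (B : Set G) :=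
    Subgroup.coe_mul_of_left_le_normalizer_right A B h1
  have h3 : a ∈ (A : Set G) * (B : Set G) := by rw [← h2]; exact ha
  obtain ⟨p, hp, q, hq, rfl⟩ := Set.mem_mul.mp h3
  exact ⟨p, hp, q, hq, rfl⟩

/-- Normal closure form. -/
theorem closure_normal_of_conj {Γ : Type*} [Group Γ] {S : Set Γ} (hS : ∀ x ∈ S, ∀ g : Γ, g * x * g⁻¹ ∈ S) :
    (closure S).Normal := by
  refine ⟨fun n hn g => ?_⟩
  induction hn using closure_induction with
  | mem y hy => exact subset_closure (hS y hy g)
  | one => simp [one_mem]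
  | mul x y _ _ hx hy =>
    have : g * (x * y) * g⁻¹ = (g * x * g⁻¹) * (g * y * g⁻¹) := by group
    rw [this]
    exact mul_mem hx hy
  | inv x _ hx =>
    have : g * x⁻¹ * g⁻¹ = (g * x * g⁻¹)⁻¹ := by group
    rw [this]
    exact inv_mem hx

/-- Separation of components by the induction hypothesis. -/
theorem Ctx.comp_sep (h : Ctx C₁ C₂) {a : G} (ha : Cg a ≠ ⊤) (E : Subgroup ↥(Cg a)) (hE : IsPComponent 2 E)
    {A₁ A₂ : Subgroup G} (hA₁ : ∀ x ∈ A₁, x ∈ C₁ ∧ x ∈ Cg a) (hA₂ : ∀ x ∈ A₂, x ∈ C₂ ∧ x ∈ Cg a) :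
    ⁅E.map (Cg a).subtype, A₁⁆ ≤ Og a ∨ ⁅E.map (Cg a).subtype, A₂⁆ ≤ Og a := by
  classical
  set Y := ↥(Cg a) with hY
  set π : Y →* Y ⧸ oddCore Y := QuotientGroup.mk' (oddCore Y) with hπ
  have hπs : Function.Surjective π := QuotientGroup.mk'_surjective _
  set N₁ : Subgroup Y := closure (Subtype.val ⁻¹' C₁ : Set Y) with hN₁
  set N₂ : Subgroup Y := closure (Subtype.val ⁻¹' C₂ : Set Y) with hN₂
  have hN₁n : N₁.Normal := closure_normal_of_conj (fun x hx g => h.sc.conj₁ _ hx g)
  have hN₂n : N₂.Normal := closure_normal_of_conj (fun x hx g => h.sc.conj₂ _ hx g)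
  have hcomm : ⁅N₁, N₂⁆ ≤ oddCore Y := h.ih (Cg a) ha
  have hÊ : IsComponent (E.map π) := hE.2.1
  have key : ∀ (A : Subgroup G) (N : Subgroup Y), (∀ x ∈ A, ∃ hx : x ∈ Cg a, (⟨x, hx⟩ : Y) ∈ N) →
      ⁅E.map π, N.map π⁆ = ⊥ → ⁅E.map (Cg a).subtype, A⁆ ≤ Og a := by
    intro A N hAN hc
    refine commutator_le.mpr ?_
    rintro _ ⟨e, he, rfl⟩ x hx
    obtain ⟨hxa, hxN⟩ := hAN x hx
    have h1 : ⁅π e, π ⟨x, hxa⟩⁆ ∈ (⊥ : Subgroup _) := by
      rw [← hc]
      exact commutator_mem_commutator ⟨e, he, rfl⟩ ⟨_, hxN, rfl⟩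
    rw [mem_bot, ← map_commutatorElement] at h1
    have h2 : ⁅e, (⟨x, hxa⟩ : Y)⁆ ∈ oddCore Y := by
      have := (QuotientGroup.eq_one_iff _).mp h1
      exact this
    exact ⟨_, h2, rfl⟩
  rcases Cfsg.Agent.Lib.Components.Basic.component_le_or_commutator _ (N₁.map π) hÊ
    (Subgroup.Normal.map hN₁n π hπs).isSubnormal with h1 | h1
  · rcases Cfsg.Agent.Lib.Components.Basic.component_le_or_commutator _ (N₂.map π) hÊ
      (Subgroup.Normal.map hN₂n π hπs).isSubnormal with h2 | h2
    · exfalso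
      have h3 : ⁅E.map π, E.map π⁆ ≤ ⊥ := by
        refine (Subgroup.commutator_mono h1 h2).trans ?_
        rw [← Subgroup.map_commutator]
        refine (Subgroup.map_mono hcomm).trans ?_
        rw [Subgroup.map_le_iff_le_comap]
        intro x hx
        exact (QuotientGroup.eq_one_iff _).mpr hx
      have h4 : ⁅E.map π, E.map π⁆ = E.map π := by
        rw [← Subgroup.map_commutator, commutator_self_of_isPComponent hE]
      rw [h4, le_bot_iff] at h3
      have h5 := Cfsg.Agent.Lib.Components.Basic.isQuasisimple_nontrivial hÊ.2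
      rw [h3] at h5
      exact (not_nontrivial _) h5
    · right
      exact key A₂ N₂ (fun x hx => ⟨(hA₂ x hx).2, subset_closure (hA₂ x hx).1⟩) h2
  · left
    exact key A₁ N₁ (fun x hx => ⟨(hA₁ x hx).2, subset_closure (hA₁ x hx).1⟩) h1

/-- A `2`-subgroup with a non-identity element of `C₁`: a central involution of its part in `C₁`. -/
theorem SC.exists_center₁ (h : SC C₁ C₂) (Q : Subgroup G) (hQ : IsPGroup 2 Q) {x : G} (hxQ : x ∈ Q) (hx : x ∈ C₁)
    (hx1 : x ≠ 1) : ∃ e, e ∈ Q ∧ e ∈ C₁ ∧ e * e = 1 ∧ e ≠ 1 ∧ ∀ y ∈ Q, y ∈ C₁ → y * e = e * y := by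
  classical
  have : Fact (Nat.Prime 2) := ⟨Nat.prime_two⟩
  set T := h.T₁ Q hQ with hT
  have hTP : IsPGroup 2 T := by
    intro y
    obtain ⟨k, hk⟩ := hQ ⟨(y : G), y.2.1⟩
    refine ⟨k, Subtype.ext ?_⟩
    have := congrArg Subtype.val hk
    simpa using this
  have hnt : Nontrivial T := ⟨⟨⟨x, hxQ, hx⟩, 1, fun e => hx1 (congrArg Subtype.val e)⟩⟩
  have hc := hTP.center_nontrivial
  obtain ⟨a, ha1⟩ := exists_ne (1 : center T)
  have ha1' : (a : T) ≠ 1 := fun e => ha1 (Subtype.ext e)
  obtain ⟨k, hk⟩ := hTP (a : T)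
  obtain ⟨b, hb, hbo⟩ := Cfsg.Agent.Lib.Signalizer.TwoCore.exists_involution_pow ha1' hk
  have hb2 : b * b = 1 := by
    have := pow_orderOf_eq_one b
    rwa [hbo, pow_two] at this
  have hb1 : b ≠ 1 := by
    intro e
    rw [e, orderOf_one] at hbo
    omega
  refine ⟨(b : G), (b : T).2.1, (b : T).2.2, congrArg Subtype.val hb2,
    fun e => hb1 (Subtype.ext e), ?_⟩
  intro y hy hyC
  have hbc : b ∈ center T := by
    have hz : zpowers (a : T) ≤ center T := (zpowers_le).mpr a.2
    exact hz hb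
  have := (mem_center_iff.mp hbc) ⟨y, hy, hyC⟩
  exact (congrArg Subtype.val this)

/-- Partner of an involution of `C₁` in a Sylow subgroup. -/
theorem Ctx.exists_partner₁ (h : Ctx C₁ C₂) (Q : Sylow 2 G) {f : G} (hf : f ∈ C₁) (hfQ : f ∈ (Q : Subgroup G))
    (hf2 : f * f = 1) (hf1 : f ≠ 1) :
    ∃ f', f' ∈ C₁ ∧ f' ∈ (Q : Subgroup G) ∧ f' * f' = 1 ∧ f' ≠ 1 ∧ f' ≠ f ∧ f * f' = f' * f := by
  classical
  obtain ⟨g₀, hg₀⟩ : ∃ g, g * f * g⁻¹ ∈ (Q : Subgroup G) ∧ g * f * g⁻¹ ≠ f := by
    by_contra hcon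
    push Not at hcon
    obtain ⟨g, hg⟩ := h.nc₁ f hf hf2 hf1
    have h1 := zstar_elem Q hf2 hf1 hfQ hcon g
    rw [h.core, mem_bot] at h1
    apply hg
    have e : f * g = (f * g * f⁻¹ * g⁻¹) * (g * f) := by group
    rw [h1, one_mul] at e
    exact e.symm
  obtain ⟨e, heQ, heC, he2, he1, hec⟩ := h.sc.exists_center₁ Q (sylow_isP Q) hfQ hf hf1
  by_cases hef : e = f
  · subst hef
    refine ⟨g₀ * e * g₀⁻¹, h.sc.conj₁ e heC g₀, hg₀.1, ?_, ?_, hg₀.2, ?_⟩
    · have : g₀ * e * g₀⁻¹ * (g₀ * e * g₀⁻¹) = g₀ * (e * e) * g₀⁻¹ := by group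
      rw [this, he2]; group
    · intro hh
      have : e = 1 := by
        have h3 : g₀⁻¹ * (g₀ * e * g₀⁻¹) * g₀ = e := by group
        rw [← h3, hh]; group
      exact he1 this
    · exact (hec _ hg₀.1 (h.sc.conj₁ e heC g₀)).symm
  · exact ⟨e, heC, heQ, he2, he1, hef, hec f hfQ hf⟩

end Cfsg.Agent.Lib.ProdFusion
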