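import Mathlib
import Cfsg.Agent.Lib.ProdFusion.Four
import Cfsg.Agent.Lib.Coprime.Coset

/-!
# The values of the functor on a pair of four-groups
-/

set_option autoImplicit false
set_option linter.style.haveILetI false
set_option linter.unusedVariables false
set_option linter.unusedSectionVars false

namespace Cfsg.Agent.Lib.ProdFusion

open Subgroup Cfsg
open scoped commutatorElement
open Cfsg.Agent.Lib.Components.PComponent
open Cfsg.Agent.Lib.Transfer.CoreSep
open Cfsg.Agent.Lib.Coprime.Coset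

variable {G : Type*} [Group G] [Finite G]

variable {C₁ C₂ : Set G}

/-- Decomposition under an involution. -/
theorem decomp_inv {O : Subgroup G} {u : G} (hu : u * u = 1) (huO : u ∈ normalizer (O : Set G))
    (hO : Odd (Nat.card O)) {k : G} (hk : k ∈ O) :
    ∃ c ∈ O, u * c = c * u ∧ k⁻¹ * c ∈ ⁅O, zpowers u⁆ := by
  have hA : IsPGroup 2 (zpowers u) := isPGroup_zpowers_of_mul_self hu
  have hcop : (Nat.card (zpowers u)).Coprime (Nat.card O) := by
    have : Fact (Nat.Prime 2) := ⟨Nat.prime_two⟩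
    obtain ⟨n, hn⟩ := IsPGroup.iff_card.mp hA
    rw [hn]
    exact Nat.Coprime.pow_left n (Nat.coprime_two_left.mpr hO)
  have hAK : zpowers u ≤ normalizer (O : Set G) := (zpowers_le).mpr huO
  obtain ⟨c, hc, hkc⟩ := exists_mem_commutator_mul_centralizer hAK hcop
    (Or.inl inferInstance) hk
  refine ⟨c, hc.1, ?_, hkc⟩
  exact ((mem_centralizer_iff.mp hc.2) u (mem_zpowers u))

/-- The elements of `Y` commuting with `u` modulo the core form a subgroup. -/
def modCent (Y : Subgroup G) (O : Subgroup G) (u : G) (hO : Y ≤ normalizer (O : Set G)) : Subgroup G where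
  carrier := {k | k ∈ Y ∧ ⁅k, u⁆ ∈ O}
  mul_mem' := by
    rintro a b ⟨ha, ha'⟩ ⟨hb, hb'⟩
    refine ⟨Y.mul_mem ha hb, ?_⟩
    have e : ⁅a * b, u⁆ = a * ⁅b, u⁆ * a⁻¹ * ⁅a, u⁆ := by
      simp only [commutatorElement_def]; group
    rw [e]
    exact O.mul_mem ((mem_normalizer_iff.mp (hO ha) _).mp hb') ha'
  one_mem' := ⟨Y.one_mem, by simp [O.one_mem]⟩
  inv_mem' := by
    rintro a ⟨ha, ha'⟩
    refine ⟨Y.inv_mem ha, ?_⟩
    have e : ⁅a⁻¹, u⁆ = a⁻¹ * ⁅a, u⁆⁻¹ * a⁻¹⁻¹ := by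
      simp only [commutatorElement_def]; group
    rw [e]
    exact (mem_normalizer_iff.mp (hO (Y.inv_mem ha)) _).mp (O.inv_mem ha')

/-- Key tool: `J` odd, normalized by `C_Y(u)`; `N` normal in `Y` and commuting with `u` modulo the core.
Then `J` commutes with `N` modulo the core. -/
theorem key_comm {Y N J : Subgroup G} {u : G} (hNY : N ≤ Y) (hNn : Y ≤ normalizer (N : Set G))
    (huY : u ∈ Y) (hu : u * u = 1) (hNu : ∀ n ∈ N, ⁅n, u⁆ ∈ oddOf Y)
    (hJY : J ≤ Y) (hJodd : Odd (Nat.card J))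
    (hJn : ∀ c ∈ Y, u * c = c * u → ∀ j ∈ J, c * j * c⁻¹ ∈ J) {j n : G} (hj : j ∈ J) (hn : n ∈ N) :
    ⁅j, n⁆ ∈ oddOf Y := by
  classical
  set O := oddOf Y with hO
  have hOY : O ≤ Y := oddOf_le Y
  have hOodd : Odd (Nat.card O) := oddOf_odd Y
  have hOn : Y ≤ normalizer (O : Set G) := fun c hc => oddOf_norm (le_normalizer hc)
  set K := N ⊔ O with hK
  have hKY : K ≤ Y := sup_le hNY hOY
  have hKn : Y ≤ normalizer (K : Set G) := fun y hy => sup_mem_normalizer (hNn hy) (hOn hy)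
  have hKu : ∀ k ∈ K, ⁅k, u⁆ ∈ O := by
    have hle : K ≤ modCent Y O u hOn := by
      refine sup_le (fun x hx => ⟨hNY hx, hNu x hx⟩) (fun x hx => ⟨hOY hx, ?_⟩)
      have e : ⁅x, u⁆ = x * (u * x⁻¹ * u⁻¹) := by
        simp only [commutatorElement_def]; group
      rw [e]
      exact O.mul_mem hx ((mem_normalizer_iff.mp (hOn huY) _).mp (O.inv_mem hx))
    exact fun k hk => (hle hk).2
  have htrap := core_trap hKY hKn huY hu hKu hJY hJodd hJn
  have h1 : n⁻¹ * (u * n * u⁻¹) ∈ O := by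
    have := hNu n⁻¹ (N.inv_mem hn)
    simpa [commutatorElement_def, mul_assoc] using this
  obtain ⟨o, ho, hc⟩ := exists_commute_mul hu (hOn huY) hOodd h1
  have hnY := hNY hn
  set n' := n * o with hn'
  have hn'Y : n' ∈ Y := Y.mul_mem hnY (hOY ho)
  have hjY := hJY hj
  have h2 : ⁅j, n'⁆ ∈ J ⊓ K := by
    refine mem_inf.mpr ⟨?_, ?_⟩
    · have e : ⁅j, n'⁆ = j * (n' * j⁻¹ * n'⁻¹) := by
        simp only [commutatorElement_def]; group
      rw [e]
      exact J.mul_mem hj (hJn n' hn'Y hc _ (J.inv_mem hj))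
    · have e : ⁅j, n'⁆ = (j * n' * j⁻¹) * n'⁻¹ := by
        simp only [commutatorElement_def]
      rw [e]
      have hn'K : n' ∈ K := K.mul_mem ((le_sup_left : N ≤ K) hn) ((le_sup_right : O ≤ K) ho)
      exact K.mul_mem ((mem_normalizer_iff.mp (hKn hjY) _).mp hn'K) (K.inv_mem hn'K)
  have h3 := htrap h2
  have e : n = n' * o⁻¹ := by rw [hn']; group
  rw [e]
  exact comm_mul_mem h3 (O.inv_mem ho) (hOn hjY) (hOn hn'Y)

/-- The second trap: an element of `J` commuting with both `N₁`, `N₂` modulo the core lies in the core. -/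
theorem trap2 {Y N₁ N₂ J : Subgroup G} {u : G} (hN₁n : Y ≤ normalizer (N₁ : Set G))
    (hN₂n : Y ≤ normalizer (N₂ : Set G)) (hN₂Y : N₂ ≤ Y)
    (huY : u ∈ Y) (hu : u * u = 1) (huN : u ∈ N₂)
    (hJY : J ≤ Y) (hJodd : Odd (Nat.card J))
    (hJn : ∀ c ∈ Y, u * c = c * u → ∀ j ∈ J, c * j * c⁻¹ ∈ J) {j : G} (hj : j ∈ J)
    (h1 : ∀ n ∈ N₁, ⁅j, n⁆ ∈ oddOf Y) (h2 : ∀ n ∈ N₂, ⁅j, n⁆ ∈ oddOf Y) : j ∈ oddOf Y := by
  classical
  set O := oddOf Y with hO
  have hOn : Y ≤ normalizer (O : Set G) := fun c hc => oddOf_norm (le_normalizer hc)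
  -- the subgroup commuting modulo the core with `N₁`, `N₂`
  let R : Subgroup G :=
    { carrier := {y | y ∈ Y ∧ (∀ n ∈ N₁, ⁅y, n⁆ ∈ O) ∧ ∀ n ∈ N₂, ⁅y, n⁆ ∈ O}
      mul_mem' := by
        rintro a b ⟨ha, ha1, ha2⟩ ⟨hb, hb1, hb2⟩
        have e : ∀ n : G, ⁅a * b, n⁆ = a * ⁅b, n⁆ * a⁻¹ * ⁅a, n⁆ := by
          intro n; simp only [commutatorElement_def]; group
        refine ⟨Y.mul_mem ha hb, fun n hn => ?_, fun n hn => ?_⟩
        · rw [e]
          exact O.mul_mem ((mem_normalizer_iff.mp (hOn ha) _).mp (hb1 n hn)) (ha1 n hn)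
        · rw [e]
          exact O.mul_mem ((mem_normalizer_iff.mp (hOn ha) _).mp (hb2 n hn)) (ha2 n hn)
      one_mem' := ⟨Y.one_mem, fun n _ => by simp [O.one_mem], fun n _ => by simp [O.one_mem]⟩
      inv_mem' := by
        rintro a ⟨ha, ha1, ha2⟩
        have e : ∀ n : G, ⁅a⁻¹, n⁆ = a⁻¹ * ⁅a, n⁆⁻¹ * a⁻¹⁻¹ := by
          intro n; simp only [commutatorElement_def]; group
        refine ⟨Y.inv_mem ha, fun n hn => ?_, fun n hn => ?_⟩
        · rw [e]
          exact (mem_normalizer_iff.mp (hOn (Y.inv_mem ha)) _).mp (O.inv_mem (ha1 n hn))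
        · rw [e]
          exact (mem_normalizer_iff.mp (hOn (Y.inv_mem ha)) _).mp (O.inv_mem (ha2 n hn)) }
  have hRY : R ≤ Y := fun y hy => hy.1
  have hRn : Y ≤ normalizer (R : Set G) := by
    intro g hg
    have key : ∀ g ∈ Y, ∀ y ∈ R, g * y * g⁻¹ ∈ R := by
      intro g hg y hy
      have e : ∀ n : G, ⁅g * y * g⁻¹, n⁆ = g * ⁅y, g⁻¹ * n * g⁆ * g⁻¹ := by
        intro n; simp only [commutatorElement_def]; group
      refine ⟨Y.mul_mem (Y.mul_mem hg hy.1) (Y.inv_mem hg), fun n hn => ?_, fun n hn => ?_⟩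
      · rw [e]
        refine (mem_normalizer_iff.mp (hOn hg) _).mp (hy.2.1 _ ?_)
        simpa using (mem_normalizer_iff.mp (hN₁n (Y.inv_mem hg)) _).mp hn
      · rw [e]
        refine (mem_normalizer_iff.mp (hOn hg) _).mp (hy.2.2 _ ?_)
        simpa using (mem_normalizer_iff.mp (hN₂n (Y.inv_mem hg)) _).mp hn
    exact mem_normalizer_of_conj' (fun l hl => by simpa using key _ (Y.inv_mem hg) l hl)
      (fun l hl => key _ hg l hl)
  have hRu : ∀ k ∈ R, ⁅k, u⁆ ∈ O := fun k hk => hk.2.2 u huN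
  have htrap := core_trap hRY hRn huY hu hRu hJY hJodd hJn
  exact htrap (mem_inf.mpr ⟨hj, hJY hj, h1, h2⟩)

/-- `U a b = [O_a, b] (O_a ∩ O_b)`. -/
abbrev U (a b : G) : Subgroup G := ⁅Og a, zpowers b⁆ ⊔ (Og a ⊓ Og b)

theorem U_le (a b : G) (hb : b ∈ Cg a) : U a b ≤ Og a := by
  refine sup_le ?_ inf_le_left
  exact commutator_le_left_of_le_normalizer ((zpowers_le).mpr (Og_norm hb))

theorem mem_cent_klein {f e c : G} :
    c ∈ centralizer ((klein f e : Subgroup G) : Set G) ↔ c ∈ Cg f ∧ c ∈ Cg e := by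
  constructor
  · intro h
    constructor
    · exact mem_Cg.mpr ((mem_centralizer_iff.mp h) f (klein_f_mem f e)).symm
    · exact mem_Cg.mpr ((mem_centralizer_iff.mp h) e (klein_e_mem f e)).symm
  · rintro ⟨h1, h2⟩
    have hle : klein f e ≤ Cg c := by
      refine (closure_le _).mpr ?_
      rintro x (rfl | rfl)
      · exact mem_Cg.mpr (mem_Cg.mp h1).symm
      · exact mem_Cg.mpr (mem_Cg.mp h2).symm
    exact mem_centralizer_iff.mpr fun h hh => mem_Cg.mp (hle hh)

theorem inf_mem_normalizer {A B : Subgroup G} {g : G} (hA : g ∈ normalizer (A : Set G))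
    (hB : g ∈ normalizer (B : Set G)) : g ∈ normalizer ((A ⊓ B : Subgroup G) : Set G) := by
  rw [mem_normalizer_iff]
  intro x
  simp only [mem_inf]
  rw [mem_normalizer_iff.mp hA x, mem_normalizer_iff.mp hB x]

/-- The core of the centraliser of a four-group contains the part of `O_f` centralising the other generator. -/
theorem inf_le_Oc {f e : G} : Og f ⊓ Cg e ≤ Oc (klein f e) := by
  refine le_oddOf ?_ (odd_of_le (Og_odd f) inf_le_left) ?_
  · rintro x ⟨h1, h2⟩
    exact mem_cent_klein.mpr ⟨Og_le f h1, h2⟩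
  · intro c hc
    obtain ⟨h1, h2⟩ := mem_cent_klein.mp hc
    exact inf_mem_normalizer (Og_norm h1) (le_normalizer h2)

theorem Oc_le_Cg {f e : G} : Oc (klein f e) ≤ Cg f := fun x hx =>
  (mem_cent_klein.mp (oddOf_le _ hx)).1

/-- Elements commuting with `f`, `e` normalize the core of the four-group. -/
theorem Oc_conj' {f e c y : G} (h1 : c ∈ Cg f) (h2 : c ∈ Cg e) (hy : y ∈ Oc (klein f e)) :
    c * y * c⁻¹ ∈ Oc (klein f e) := Oc_conj (mem_cent_klein.mpr ⟨h1, h2⟩) hy

section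

variable (h : Ctx C₁ C₂) {f e z a : G} (hf : f ∈ C₁) (he : e ∈ C₁) (hz : z ∈ C₂)
  (hf2 : f * f = 1) (he2 : e * e = 1) (hz2 : z * z = 1) (hf1 : f ≠ 1)
  (hfe : f * e = e * f) (hfz : f * z = z * f) (hez : e * z = z * e) (ha : a = z ∨ a = f * z)

include h hf he hz hf2 he2 hz2 hf1 hfe hfz hez ha

/-- `(i')`: `O_a ∩ C(f)` commutes with `N₁(C(f))` modulo `O_f`. -/
theorem Ctx.key_i {j n : G} (hj : j ∈ Og a ⊓ Cg f) (hn : n ∈ Nn C₁ (Cg f)) : ⁅j, n⁆ ∈ Og f := by
  have hY : Cg f ≠ ⊤ := centralizer_ne_top_of (h.nc₁ f hf hf2 hf1)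
  have hzY : z ∈ Cg f := mem_Cg.mpr hfz.symm
  refine key_comm (u := z) (Nn_le C₁ _) (fun c hc => Nn_norm h.sc.conj₁ hc) hzY hz2 ?_ inf_le_right
    (odd_of_le (Og_odd a) inf_le_left) ?_ hj hn
  · intro n hn
    exact h.ih_elem hY (a := n) (b := z) hn (mem_Nn hz hzY)
  · intro c hcY hcz j hj
    refine mem_inf.mpr ⟨Og_conj ?_ (mem_inf.mp hj).1, ?_⟩
    · rcases ha with rfl | rfl
      · exact mem_Cg.mpr hcz.symm
      · refine mem_Cg.mpr ?_
        rw [← mul_assoc, (mem_Cg.mp hcY), mul_assoc, ← hcz, mul_assoc]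
    · exact mul_mem (mul_mem hcY (mem_inf.mp hj).2) (inv_mem hcY)

/-- `(ii')`: `O_a ∩ O(C(A₁)) ≤ O_f`. -/
theorem Ctx.key_ii : Og a ⊓ Oc (klein f e) ≤ Og f := by
  have hY : Cg f ≠ ⊤ := centralizer_ne_top_of (h.nc₁ f hf hf2 hf1)
  have hzY : z ∈ Cg f := mem_Cg.mpr hfz.symm
  have heY : e ∈ Cg f := mem_Cg.mpr hfe.symm
  intro ζ hζ
  obtain ⟨h1, h2⟩ := mem_inf.mp hζ
  have hζY : ζ ∈ Cg f := Oc_le_Cg h2
  refine trap2 (Y := Cg f) (N₁ := Nn C₁ (Cg f)) (N₂ := Nn C₂ (Cg f)) (J := Og a ⊓ Cg f) (u := z)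
    (fun c hc => Nn_norm h.sc.conj₁ hc) (fun c hc => Nn_norm h.sc.conj₂ hc) (Nn_le _ _) hzY hz2
    (mem_Nn hz hzY) inf_le_right (odd_of_le (Og_odd a) inf_le_left) ?_ (mem_inf.mpr ⟨h1, hζY⟩) ?_ ?_
  · intro c hcY hcz j hj
    refine mem_inf.mpr ⟨Og_conj ?_ (mem_inf.mp hj).1, ?_⟩
    · rcases ha with rfl | rfl
      · exact mem_Cg.mpr hcz.symm
      · refine mem_Cg.mpr ?_
        rw [← mul_assoc, (mem_Cg.mp hcY), mul_assoc, ← hcz, mul_assoc]
    · exact mul_mem (mul_mem hcY (mem_inf.mp hj).2) (inv_mem hcY)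
  · intro n hn
    exact h.key_i hf he hz hf2 he2 hz2 hf1 hfe hfz hez ha (mem_inf.mpr ⟨h1, hζY⟩) hn
  · intro n hn
    refine key_comm (Y := Cg f) (N := Nn C₂ (Cg f)) (J := Oc (klein f e)) (u := e) (Nn_le C₂ _)
      (fun c hc => Nn_norm h.sc.conj₂ hc) heY he2 ?_ (fun x hx => Oc_le_Cg hx) (Oc_odd _) ?_ h2 hn
    · intro n hn
      exact commutator_inv_mem (h.ih_elem hY (a := e) (b := n) (mem_Nn he heY) hn)
    · intro c hcY hce j hj
      exact Oc_conj' hcY (mem_Cg.mpr hce.symm) hj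

/-- The value of the first functor component. -/
theorem Ctx.Th_eq_U : Th (klein f e) a = U a f := by
  classical
  have hfa : f ∈ Cg a := by
    rcases ha with rfl | rfl
    · exact mem_Cg.mpr hfz
    · exact mem_Cg.mpr (by rw [← mul_assoc, hf2, one_mul, hfz, mul_assoc, hf2, mul_one])
  have hea : e ∈ Cg a := by
    rcases ha with rfl | rfl
    · exact mem_Cg.mpr hez
    · refine mem_Cg.mpr ?_
      rw [← mul_assoc, ← hfe, mul_assoc, hez, ← mul_assoc]
  have hfN : f ∈ normalizer (Og a : Set G) := Og_norm hfa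
  have heN : e ∈ normalizer (Og a : Set G) := Og_norm hea
  set V : Subgroup G := ⁅Og a, zpowers f⁆ with hV
  have hVO : V ≤ Og a := commutator_le_left_of_le_normalizer ((zpowers_le).mpr hfN)
  have hOV : Og a ≤ normalizer (V : Set G) :=
    commutator_le_normalizer_left ((zpowers_le).mpr hfN)
  have hfV : f ∈ normalizer (V : Set G) :=
    commutator_le_normalizer_right ((zpowers_le).mpr hfN) (mem_zpowers f)
  have heV : e ∈ normalizer (V : Set G) := by
    -- `e` commutes with `f` and normalizes `O_a`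
    have key : ∀ d : G, d ∈ normalizer (Og a : Set G) → d * f = f * d → ∀ x ∈ V, d * x * d⁻¹ ∈ V := by
      intro d hd hdf x hx
      induction hx using closure_induction with
      | mem y hy =>
        obtain ⟨o, ho, u, hu, rfl⟩ := hy
        obtain ⟨k, rfl⟩ := mem_zpowers_iff.mp hu
        have hc : d * f ^ k * d⁻¹ = f ^ k := by
          have : Commute d (f ^ k) := (Commute.zpow_right hdf k)
          rw [this.eq]; group
        have e1 : d * ⁅o, f ^ k⁆ * d⁻¹ = ⁅d * o * d⁻¹, d * f ^ k * d⁻¹⁆ := by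
          simp only [commutatorElement_def]
          group
        rw [e1, hc]
        exact commutator_mem_commutator ((mem_normalizer_iff.mp hd _).mp ho) hu
      | one => simp [one_mem]
      | mul x y _ _ hx hy =>
        have : d * (x * y) * d⁻¹ = (d * x * d⁻¹) * (d * y * d⁻¹) := by group
        rw [this]
        exact mul_mem hx hy
      | inv x _ hx =>
        have : d * x⁻¹ * d⁻¹ = (d * x * d⁻¹)⁻¹ := by group
        rw [this]
        exact inv_mem hx
    refine mem_normalizer_of_conj' (fun l hl => ?_) (fun l hl => key e heN hfe.symm l hl)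
    have h1 := key e⁻¹ (inv_mem heN) (by
      have : Commute e⁻¹ f := (Commute.symm hfe).inv_left
      exact this) l hl
    simpa using h1
  have hOf : f ∈ normalizer (Og f : Set G) := Og_norm (mem_Cg.mpr rfl)
  have heOf : e ∈ normalizer (Og f : Set G) := Og_norm (mem_Cg.mpr hfe.symm)
  have hfT : f ∈ normalizer ((U a f : Subgroup G) : Set G) :=
    sup_mem_normalizer hfV (inf_mem_normalizer hfN hOf)
  apply le_antisymm
  · refine sup_le ?_ ?_
    · refine commutator_le.mpr fun o ho g hg => ?_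
      have hcf : ∀ o ∈ Og a, ⁅o, f⁆ ∈ U a f := fun o ho =>
        mem_sup_left (commutator_mem_commutator ho (mem_zpowers f))
      have hce : ∀ o ∈ Og a, ⁅o, e⁆ ∈ U a f := by
        intro o ho
        obtain ⟨c, hc, hcf', hd⟩ := decomp_inv hf2 hfN (Og_odd a) ho
        have hod : o = c * (o⁻¹ * c)⁻¹ := by group
        set d := (o⁻¹ * c)⁻¹ with hdd
        have hdV : d ∈ V := inv_mem hd
        rw [hod]
        have e1 : ⁅c * d, e⁆ = c * ⁅d, e⁆ * c⁻¹ * ⁅c, e⁆ := by
          simp only [commutatorElement_def]; group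
        rw [e1]
        refine mul_mem (mem_sup_left ?_) (mem_sup_right (mem_inf.mpr ⟨?_, ?_⟩))
        · refine (mem_normalizer_iff.mp (hOV hc) _).mp ?_
          have e2 : ⁅d, e⁆ = d * (e * d⁻¹ * e⁻¹) := by
            simp only [commutatorElement_def]; group
          rw [e2]
          exact mul_mem hdV ((mem_normalizer_iff.mp heV _).mp (inv_mem hdV))
        · have e2 : ⁅c, e⁆ = c * (e * c⁻¹ * e⁻¹) := by
            simp only [commutatorElement_def]; group
          rw [e2]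
          exact mul_mem hc ((mem_normalizer_iff.mp heN _).mp (inv_mem hc))
        · refine h.key_i hf he hz hf2 he2 hz2 hf1 hfe hfz hez ha (mem_inf.mpr ⟨hc, ?_⟩)
            (mem_Nn he (mem_Cg.mpr hfe.symm))
          exact mem_Cg.mpr hcf'.symm
      rcases klein_mem hf2 he2 hfe hg with rfl | rfl | rfl | rfl
      · simp [one_mem]
      · exact hcf o ho
      · exact hce o ho
      · have e1 : ⁅o, f * e⁆ = ⁅o, f⁆ * (f * ⁅o, e⁆ * f⁻¹) := by
          simp only [commutatorElement_def]; group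
        rw [e1]
        exact mul_mem (hcf o ho) ((mem_normalizer_iff.mp hfT _).mp (hce o ho))
    · intro ζ hζ
      exact mem_sup_right (mem_inf.mpr ⟨(mem_inf.mp hζ).1,
        h.key_ii hf he hz hf2 he2 hz2 hf1 hfe hfz hez ha hζ⟩)
  · refine sup_le ?_ ?_
    · refine (Subgroup.commutator_mono le_rfl ?_).trans le_sup_left
      exact (zpowers_le).mpr (klein_f_mem f e)
    · intro ζ hζ
      have heB : e ∈ normalizer ((Og a ⊓ Og f : Subgroup G) : Set G) := inf_mem_normalizer heN heOf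
      obtain ⟨c, hc, hce, hd⟩ := decomp_inv he2 heB (odd_of_le (Og_odd a) inf_le_left) hζ
      have hod : ζ = c * (ζ⁻¹ * c)⁻¹ := by group
      rw [hod]
      refine mul_mem (mem_sup_right (mem_inf.mpr ⟨(mem_inf.mp hc).1, ?_⟩)) (inv_mem (mem_sup_left ?_))
      · exact inf_le_Oc (mem_inf.mpr ⟨(mem_inf.mp hc).2, mem_Cg.mpr hce.symm⟩)
      · refine Subgroup.commutator_mono inf_le_left ?_ hd
        exact (zpowers_le).mpr (klein_e_mem f e)

end

/-- The value of the component on `f` itself. -/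
theorem Th_self {f e : G} (he2 : e * e = 1) (hfe : f * e = e * f) : Th (klein f e) f = Og f := by
  have heN : e ∈ normalizer (Og f : Set G) := Og_norm (mem_Cg.mpr hfe.symm)
  apply le_antisymm
  · refine sup_le ?_ inf_le_left
    refine commutator_le_left_of_le_normalizer ?_
    refine (closure_le _).mpr ?_
    rintro x (rfl | rfl)
    · exact Og_norm (mem_Cg.mpr rfl)
    · exact heN
  · intro o ho
    obtain ⟨c, hc, hce, hd⟩ := decomp_inv he2 heN (Og_odd f) ho
    have hod : o = c * (o⁻¹ * c)⁻¹ := by group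
    rw [hod]
    refine mul_mem (mem_sup_right (mem_inf.mpr ⟨hc, ?_⟩)) (inv_mem (mem_sup_left ?_))
    · exact inf_le_Oc (mem_inf.mpr ⟨hc, mem_Cg.mpr hce.symm⟩)
    · refine Subgroup.commutator_mono le_rfl ?_ hd
      exact (zpowers_le).mpr (klein_e_mem f e)

end Cfsg.Agent.Lib.ProdFusion
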