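import Mathlib
import Cfsg.Agent.Lib.ProdFusion.Theta
import Cfsg.Agent.S1330
import Cfsg.Agent.S0205
import Cfsg.Agent.Lib.Signalizer.CompleteTwo

/-!
# The odd subgroups attached to commuting pairs of involutions
-/

set_option autoImplicit false
set_option linter.style.haveILetI false
set_option linter.unusedVariables false
set_option linter.unusedSectionVars false

namespace Cfsg.Agent.Lib.ProdFusion

open Subgroup Cfsg
open scoped commutatorElement
open Cfsg.Agent.Lib.Components.PComponent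
open Cfsg.Agent.Lib.Transfer.CoreSep
open Cfsg.Agent.Lib.Coprime.Coset

universe u

variable {G : Type u} [Group G] [Finite G]

variable {C₁ C₂ : Set G}

/-- The subgroup attached to a commuting pair. -/
abbrev W (f z : G) : Subgroup G := U f z ⊔ U z f ⊔ (U (f * z) f ⊓ U (f * z) z)

theorem W_comm {f z : G} (hfz : f * z = z * f) : W f z = W z f := by
  change U f z ⊔ U z f ⊔ (U (f * z) f ⊓ U (f * z) z) = U z f ⊔ U f z ⊔ (U (z * f) z ⊓ U (z * f) f)
  rw [← hfz, sup_comm (U f z), inf_comm]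

/-- A configuration of two commuting four-groups. -/
structure Cfg (C₁ C₂ : Set G) (f e z d : G) : Prop where
  hf : f ∈ C₁
  he : e ∈ C₁
  hz : z ∈ C₂
  hd : d ∈ C₂
  f2 : f * f = 1
  e2 : e * e = 1
  z2 : z * z = 1
  d2 : d * d = 1
  f1 : f ≠ 1
  e1 : e ≠ 1
  z1 : z ≠ 1
  d1 : d ≠ 1
  fe : f ≠ e
  zd : z ≠ d
  cfe : f * e = e * f
  czd : z * d = d * z
  cfz : f * z = z * f
  cfd : f * d = d * f
  cez : e * z = z * e
  ced : e * d = d * e

theorem Cfg.symm {f e z d : G} (c : Cfg C₁ C₂ f e z d) : Cfg C₂ C₁ z d f e where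
  hf := c.hz
  he := c.hd
  hz := c.hf
  hd := c.he
  f2 := c.z2
  e2 := c.d2
  z2 := c.f2
  d2 := c.e2
  f1 := c.z1
  e1 := c.d1
  z1 := c.f1
  d1 := c.e1
  fe := c.zd
  zd := c.fe
  cfe := c.czd
  czd := c.cfe
  cfz := c.cfz.symm
  cfd := c.cez.symm
  cez := c.cfd.symm
  ced := c.ced.symm

theorem Cfg.swap₁ {f e z d : G} (c : Cfg C₁ C₂ f e z d) : Cfg C₁ C₂ e f z d where
  hf := c.he
  he := c.hf
  hz := c.hz
  hd := c.hd
  f2 := c.e2
  e2 := c.f2
  z2 := c.z2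
  d2 := c.d2
  f1 := c.e1
  e1 := c.f1
  z1 := c.z1
  d1 := c.d1
  fe := c.fe.symm
  zd := c.zd
  cfe := c.cfe.symm
  czd := c.czd
  cfz := c.cez
  cfd := c.ced
  cez := c.cfz
  ced := c.cfd

theorem Cfg.swap₂ {f e z d : G} (c : Cfg C₁ C₂ f e z d) : Cfg C₁ C₂ f e d z where
  hf := c.hf
  he := c.he
  hz := c.hd
  hd := c.hz
  f2 := c.f2
  e2 := c.e2
  z2 := c.d2
  d2 := c.z2
  f1 := c.f1
  e1 := c.e1
  z1 := c.d1
  d1 := c.z1
  fe := c.fe
  zd := c.zd.symm
  cfe := c.cfe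
  czd := c.czd.symm
  cfz := c.cfd
  cfd := c.cfz
  cez := c.ced
  ced := c.cez

theorem klein_comm' {f e : G} : klein f e = klein e f := by
  change closure {f, e} = closure {e, f}
  rw [Set.pair_comm]

section

variable (h : SC C₁ C₂) {f e z d : G} (c : Cfg C₁ C₂ f e z d)
include h c

theorem Cfg.mem₁ {x : G} (hx : x ∈ klein f e) : x ∈ C₁ := by
  obtain ⟨Q, h1, h2⟩ := exists_sylow_of_invol c.f2 c.e2 c.cfe
  rcases klein_mem c.f2 c.e2 c.cfe hx with rfl | rfl | rfl | rfl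
  · exact h.one₁
  · exact c.hf
  · exact c.he
  · exact h.mul₁ _ (sylow_isP Q) _ h1 _ h2 c.hf c.he

theorem Cfg.mem₂ {x : G} (hx : x ∈ klein z d) : x ∈ C₂ := c.symm.mem₁ h.symm hx

omit h in
theorem Cfg.comm {x y : G} (hx : x ∈ klein f e) (hy : y ∈ klein z d) : x * y = y * x := by
  have hle : klein z d ≤ centralizer ((klein f e : Subgroup G) : Set G) := by
    refine (closure_le _).mpr ?_
    rintro a (rfl | rfl)
    · exact mem_cent_klein.mpr ⟨mem_Cg.mpr c.cfz.symm, mem_Cg.mpr c.cez.symm⟩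
    · exact mem_cent_klein.mpr ⟨mem_Cg.mpr c.cfd.symm, mem_Cg.mpr c.ced.symm⟩
  exact (mem_centralizer_iff.mp (hle hy) x hx)

end

section

variable (h : Ctx C₁ C₂) {f e z d : G} (c : Cfg C₁ C₂ f e z d)
include h c

/-- The two four-groups are core-separated. -/
theorem Cfg.coreSeparated : IsCoreSeparated (klein f e) (klein z d) := by
  classical
  have hsc := h.sc
  have hea₁ := klein_ea c.f2 c.e2 c.cfe
  have hea₂ := klein_ea c.z2 c.d2 c.czd
  have hinf : klein f e ⊓ klein z d = ⊥ := by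
    rw [eq_bot_iff]
    intro x hx
    exact mem_bot.mpr (hsc.disj x (c.mem₁ hsc hx.1) (c.mem₂ hsc hx.2))
  refine ⟨hea₁, hea₂, klein_card c.f2 c.e2 c.cfe c.f1 c.e1 c.fe, klein_card c.z2 c.d2 c.czd c.z1 c.d1 c.zd,
    ?_, hinf, fun x hx y hy => c.comm hx hy, ?_⟩
  · intro he
    have : f ∈ klein f e ⊓ klein z d := ⟨klein_f_mem _ _, he ▸ klein_f_mem _ _⟩
    rw [hinf] at this
    exact c.f1 (mem_bot.mp this)
  · intro a ha ha1 E hE
    obtain ⟨p, hp, q, hq, rfl⟩ := mem_sup_comm (fun x hx y hy => c.comm hx hy) ha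
    have hp2 : p * p = 1 := by simpa [pow_two] using hea₁.2 p hp
    have hq2 : q * q = 1 := by simpa [pow_two] using hea₂.2 q hq
    have hcpq : p * q = q * p := c.comm hp hq
    have hne := centralizer_ne_top_of (h.not_central (c.mem₁ hsc hp) (c.mem₂ hsc hq) hp2 hq2 hcpq ha1)
    have hc1 : ∀ x y : G, x ∈ klein f e → y ∈ klein f e → x * y = y * x := fun x y hx hy =>
      congrArg Subtype.val (hea₁.1.is_comm.comm ⟨x, hx⟩ ⟨y, hy⟩)
    have hc2 : ∀ x y : G, x ∈ klein z d → y ∈ klein z d → x * y = y * x := fun x y hx hy =>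
      congrArg Subtype.val (hea₂.1.is_comm.comm ⟨x, hx⟩ ⟨y, hy⟩)
    refine h.comp_sep hne E hE (fun x hx => ⟨c.mem₁ hsc hx, ?_⟩) (fun x hx => ⟨c.mem₂ hsc hx, ?_⟩)
    · refine mem_Cg.mpr ?_
      have h1 : Commute x p := hc1 x p hx hp
      have h2 : Commute x q := c.comm hx hq
      exact (h1.mul_right h2).eq
    · refine mem_Cg.mpr ?_
      have h1 : Commute x p := (c.comm hp hx).symm
      have h2 : Commute x q := hc2 x q hx hq
      exact (h1.mul_right h2).eq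

/-- The functor values. -/
theorem Cfg.theta_f : Th (klein f e) f ⊓ Th (klein z d) f = U f z := by
  rw [Th_self c.e2 c.cfe, h.symm.Th_eq_U (f := z) (e := d) (z := f) (a := f) c.hz c.hd c.hf c.z2 c.d2 c.f2 c.z1
    c.czd c.cfz.symm c.cfd.symm (Or.inl rfl)]
  exact inf_eq_right.mpr (U_le _ _ (mem_Cg.mpr c.cfz.symm))

theorem Cfg.theta_z : Th (klein f e) z ⊓ Th (klein z d) z = U z f := by
  rw [inf_comm]
  exact c.symm.theta_f h.symm

theorem Cfg.theta_t : Th (klein f e) (f * z) ⊓ Th (klein z d) (f * z) = U (f * z) f ⊓ U (f * z) z := by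
  rw [h.Th_eq_U (a := f * z) c.hf c.he c.hz c.f2 c.e2 c.z2 c.f1 c.cfe c.cfz c.cez (Or.inr rfl),
    h.symm.Th_eq_U (f := z) (e := d) (z := f) (a := f * z) c.hz c.hd c.hf c.z2 c.d2 c.f2 c.z1
      c.czd c.cfz.symm c.cfd.symm (Or.inr c.cfz)]

/-- The closure of the functor is the subgroup `W f z`, and it is odd. -/
theorem Cfg.closure_eq :
    signalizerClosure (klein f e ⊔ klein z d) (fun a => Th (klein f e) a ⊓ Th (klein z d) a) = W f z ∧
      Odd (Nat.card (W f z)) := by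
  classical
  have hsc := h.sc
  have hcs := c.coreSeparated h
  set A := klein f e ⊔ klein z d with hA
  set θ : G → Subgroup G := fun a => Th (klein f e) a ⊓ Th (klein z d) a with hθd
  have hθ : IsSignalizerFunctor 2 A θ := Cfsg.Agent.S1330.result _ _ hcs
  have hea₁ := klein_ea c.f2 c.e2 c.cfe
  have hea₂ := klein_ea c.z2 c.d2 c.czd
  have hEA : IsElementaryAbelian 2 A :=
    Cfsg.Agent.Lib.Signalizer.TwoCore.isElementaryAbelian_sup hea₁.2 hea₂.2
      (fun x hx y hy => congrArg Subtype.val (hea₁.1.is_comm.comm ⟨x, hx⟩ ⟨y, hy⟩))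
      (fun x hx y hy => congrArg Subtype.val (hea₂.1.is_comm.comm ⟨x, hx⟩ ⟨y, hy⟩))
      (fun x hx y hy => c.comm hx hy)
  have hfA : f ∈ A := mem_sup_left (klein_f_mem _ _)
  have hzA : z ∈ A := mem_sup_right (klein_f_mem _ _)
  have h8 : 2 ^ 3 ≤ Nat.card A := by
    have hP : IsPGroup 2 A := Cfsg.Agent.Lib.Signalizer.TwoCore.isPGroup_of_sq hEA.2
    refine Cfsg.Agent.Lib.Signalizer.TwoCore.eight_le_of_lt hP ?_
    have hcard := klein_card c.f2 c.e2 c.cfe c.f1 c.e1 c.fe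
    have hle : klein f e ≤ A := le_sup_left
    have h4 : 4 ≤ Nat.card A := by
      rw [← hcard]
      exact Nat.le_of_dvd Nat.card_pos (Subgroup.card_dvd_of_le hle)
    refine lt_of_le_of_ne h4 fun he => ?_
    have heq := Subgroup.eq_of_le_of_card_ge hle (by rw [hcard, ← he])
    have : z ∈ klein f e := heq ▸ hzA
    exact c.z1 (hsc.disj z (c.mem₁ hsc this) c.hz)
  have hsolv : IsSolvableSignalizerFunctor 2 A θ := by
    refine ⟨hθ, fun a ha ha1 => ?_⟩
    exact Cfsg.Agent.S0205.result (Nat.not_even_iff_odd.mp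
      (fun h2 => hθ.2.1 a ha ha1 (even_iff_two_dvd.mp h2)))
  obtain ⟨hXs, hXodd, hXinv, hXle⟩ := Cfsg.Agent.Lib.Signalizer.CompleteTwo.complete_two hEA h8 hsolv
  set X := signalizerClosure A θ with hX
  have hθle : ∀ a, a ∈ A → a ≠ 1 → θ a ≤ X := fun a ha ha1 =>
    le_iSup (fun a : {a : G // a ∈ A ∧ a ≠ 1} => θ (a : G)) ⟨a, ha, ha1⟩
  have hz1' : f ≠ z := fun e => c.f1 (hsc.disj f c.hf (e ▸ c.hz))
  have ht1 : f * z ≠ 1 := by
    intro e
    have h1 : f = z := by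
      calc f = f * (z * z) := by rw [c.z2, mul_one]
        _ = (f * z) * z := by rw [mul_assoc]
        _ = z := by rw [e, one_mul]
    exact hz1' h1
  have htA : f * z ∈ A := mul_mem hfA hzA
  have hθf : θ f = U f z := c.theta_f h
  have hθz : θ z = U z f := c.theta_z h
  have hθt : θ (f * z) = U (f * z) f ⊓ U (f * z) z := c.theta_t h
  have hEq : X = W f z := by
    apply le_antisymm
    · have hVK : klein f z ≤ normalizer (X : Set G) := by
        have key : ∀ b ∈ A, b ∈ normalizer (X : Set G) := fun b hb =>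
          mem_normalizer_of_conj' (fun l hl => by simpa using hXinv _ (A.inv_mem hb) l hl)
            (fun l hl => hXinv b hb l hl)
        refine (closure_le _).mpr ?_
        rintro x (rfl | rfl)
        · exact key _ hfA
        · exact key _ hzA
      have hgen := Cfsg.Agent.Lib.Signalizer.TwoCore.le_iSup_inf_centralizer_four
        (klein_ea c.f2 c.z2 c.cfz) (klein_card c.f2 c.z2 c.cfz c.f1 c.z1 hz1').ge hXodd hVK
      refine hgen.trans (iSup_le ?_)
      rintro ⟨a, ha, ha1⟩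
      rcases klein_mem c.f2 c.z2 c.cfz ha with rfl | rfl | rfl | rfl
      · exact absurd rfl ha1
      · refine (hXle _ hfA c.f1).trans ?_
        rw [hθf]
        exact le_sup_left.trans le_sup_left
      · refine (hXle _ hzA c.z1).trans ?_
        rw [hθz]
        exact le_sup_right.trans le_sup_left
      · refine (hXle _ htA ht1).trans ?_
        rw [hθt]
        exact le_sup_right
    · refine sup_le (sup_le ?_ ?_) ?_
      · rw [← hθf]; exact hθle _ hfA c.f1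
      · rw [← hθz]; exact hθle _ hzA c.z1
      · rw [← hθt]; exact hθle _ htA ht1
  refine ⟨hEq, ?_⟩
  rw [← hEq]
  exact Nat.not_even_iff_odd.mp (fun h2 => hXodd (even_iff_two_dvd.mp h2))

theorem Cfg.W_eq₁ : W f z = W e z := by
  have h1 := (c.closure_eq h).1
  have h2 := (c.swap₁.closure_eq h).1
  rw [klein_comm' (f := e) (e := f)] at h2
  rw [← h1, ← h2]

theorem Cfg.W_eq₂ : W f z = W f d := by
  have h1 := (c.closure_eq h).1
  have h2 := (c.swap₂.closure_eq h).1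
  rw [klein_comm' (f := d) (e := z)] at h2
  rw [← h1, ← h2]

end

section

variable (h : Ctx C₁ C₂) (Q : Sylow 2 G)
include h

theorem Ctx.W_step₁ {f f' z : G} (hf : f ∈ C₁) (hf' : f' ∈ C₁) (hz : z ∈ C₂)
    (hfQ : f ∈ (Q : Subgroup G)) (hf'Q : f' ∈ (Q : Subgroup G)) (hzQ : z ∈ (Q : Subgroup G))
    (f2 : f * f = 1) (f'2 : f' * f' = 1) (z2 : z * z = 1) (f1 : f ≠ 1) (f'1 : f' ≠ 1) (z1 : z ≠ 1)
    (hc : f * f' = f' * f) : W f z = W f' z := by
  by_cases hne : f = f'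
  · rw [hne]
  obtain ⟨d, hd, hdQ, d2, d1, hdz, hzd⟩ := h.symm.exists_partner₁ Q hz hzQ z2 z1
  have hP := sylow_isP Q
  have c : Cfg C₁ C₂ f f' z d :=
    { hf := hf, he := hf', hz := hz, hd := hd, f2 := f2, e2 := f'2, z2 := z2, d2 := d2, f1 := f1, e1 := f'1,
      z1 := z1, d1 := d1, fe := hne, zd := fun e => hdz e.symm, cfe := hc, czd := hzd,
      cfz := h.sc.comm _ hP _ hfQ _ hzQ hf hz, cfd := h.sc.comm _ hP _ hfQ _ hdQ hf hd,
      cez := h.sc.comm _ hP _ hf'Q _ hzQ hf' hz, ced := h.sc.comm _ hP _ hf'Q _ hdQ hf' hd }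
  exact c.W_eq₁ h

/-- `W` is constant on the involutions of `C₁`, `C₂` in a Sylow subgroup. -/
theorem Ctx.W_const {f f' z z' : G} (hf : f ∈ C₁) (hf' : f' ∈ C₁) (hz : z ∈ C₂) (hz' : z' ∈ C₂)
    (hfQ : f ∈ (Q : Subgroup G)) (hf'Q : f' ∈ (Q : Subgroup G)) (hzQ : z ∈ (Q : Subgroup G))
    (hz'Q : z' ∈ (Q : Subgroup G))
    (f2 : f * f = 1) (f'2 : f' * f' = 1) (z2 : z * z = 1) (z'2 : z' * z' = 1) (f1 : f ≠ 1) (f'1 : f' ≠ 1)
    (z1 : z ≠ 1) (z'1 : z' ≠ 1) : W f z = W f' z' := by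
  have hP := sylow_isP Q
  obtain ⟨e, heQ, he, e2, e1, hec⟩ := h.sc.exists_center₁ Q hP hfQ hf f1
  have h1 : W f z = W e z := h.W_step₁ Q hf he hz hfQ heQ hzQ f2 e2 z2 f1 e1 z1 (hec f hfQ hf)
  have h2 : W e z = W f' z := (h.W_step₁ Q hf' he hz hf'Q heQ hzQ f'2 e2 z2 f'1 e1 z1 (hec f' hf'Q hf')).symm
  obtain ⟨d, hdQ, hd, d2, d1, hdc⟩ := h.sc.symm.exists_center₁ Q hP hzQ hz z1
  have hcz : ∀ y, y ∈ (Q : Subgroup G) → y ∈ C₂ → f' * y = y * f' := fun y hy hyC =>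
    h.sc.comm _ hP _ hf'Q _ hy hf' hyC
  have h3 : W z f' = W d f' := h.symm.W_step₁ Q hz hd hf' hzQ hdQ hf'Q z2 d2 f'2 z1 d1 f'1 (hdc z hzQ hz)
  have h4 : W d f' = W z' f' :=
    (h.symm.W_step₁ Q hz' hd hf' hz'Q hdQ hf'Q z'2 d2 f'2 z'1 d1 f'1 (hdc z' hz'Q hz')).symm
  rw [h1, h2, W_comm (hcz z hzQ hz), h3, h4, ← W_comm (hcz z' hz'Q hz')]

/-- `W` is odd. -/
theorem Ctx.W_odd {f z : G} (hf : f ∈ C₁) (hz : z ∈ C₂) (f2 : f * f = 1) (z2 : z * z = 1) (f1 : f ≠ 1) (z1 : z ≠ 1)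
    (hc : f * z = z * f) : Odd (Nat.card (W f z)) := by
  obtain ⟨Q, hfQ, hzQ⟩ := exists_sylow_of_invol f2 z2 hc
  obtain ⟨e, he, heQ, e2, e1, hef, hfe⟩ := h.exists_partner₁ Q hf hfQ f2 f1
  obtain ⟨d, hd, hdQ, d2, d1, hdz, hzd⟩ := h.symm.exists_partner₁ Q hz hzQ z2 z1
  have hP := sylow_isP Q
  have c : Cfg C₁ C₂ f e z d :=
    { hf := hf, he := he, hz := hz, hd := hd, f2 := f2, e2 := e2, z2 := z2, d2 := d2, f1 := f1, e1 := e1,
      z1 := z1, d1 := d1, fe := fun e' => hef e'.symm, zd := fun e' => hdz e'.symm, cfe := hfe, czd := hzd,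
      cfz := h.sc.comm _ hP _ hfQ _ hzQ hf hz, cfd := h.sc.comm _ hP _ hfQ _ hdQ hf hd,
      cez := h.sc.comm _ hP _ heQ _ hzQ he hz, ced := h.sc.comm _ hP _ heQ _ hdQ he hd }
  exact (c.closure_eq h).2

end

end Cfsg.Agent.Lib.ProdFusion
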