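import Mathlib
import Cfsg.Agent.Lib.ProdFusion.Wdef

/-!
# Conjugation of the subgroups `W f z`
-/

set_option autoImplicit false
set_option linter.style.haveILetI false
set_option linter.unusedVariables false
set_option linter.unusedSectionVars false

namespace Cfsg.Agent.Lib.ProdFusion

open Subgroup Cfsg
open scoped commutatorElement
open Cfsg.Agent.Lib.Components.PComponent
open Cfsg.Agent.Lib.Transfer.CoreSep
open Cfsg.Agent.Lib.Coprime.Coset

universe u

variable {G : Type u} [Group G] [Finite G]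

/-- Conjugate of a subgroup. -/
abbrev cj (g : G) (H : Subgroup G) : Subgroup G := H.map (MulAut.conj g).toMonoidHom

omit [Finite G] in
theorem mem_cj {g x : G} {H : Subgroup G} : x ∈ cj g H ↔ g⁻¹ * x * g ∈ H := by
  constructor
  · rintro ⟨y, hy, rfl⟩
    have : g⁻¹ * (MulAut.conj g).toMonoidHom y * g = y := by
      simp [MulAut.conj_apply]; group
    rwa [this]
  · intro h
    refine ⟨_, h, ?_⟩
    simp [MulAut.conj_apply]; group

omit [Finite G] in
theorem conj_mem_cj {g x : G} {H : Subgroup G} (h : x ∈ H) : g * x * g⁻¹ ∈ cj g H := by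
  rw [mem_cj]; simpa [mul_assoc] using h

omit [Finite G] in
theorem cj_mul (a b : G) (H : Subgroup G) : cj (a * b) H = cj a (cj b H) := by
  ext x
  simp only [mem_cj, mul_inv_rev]
  have : b⁻¹ * a⁻¹ * x * (a * b) = b⁻¹ * (a⁻¹ * x * a) * b := by group
  rw [this]

omit [Finite G] in
theorem cj_one (H : Subgroup G) : cj 1 H = H := by
  ext x
  simp [mem_cj]

omit [Finite G] in
theorem cj_inv_cj (g : G) (H : Subgroup G) : cj g (cj g⁻¹ H) = H := by
  rw [← cj_mul, mul_inv_cancel, cj_one]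

omit [Finite G] in
theorem cj_cj_inv (g : G) (H : Subgroup G) : cj g⁻¹ (cj g H) = H := by
  rw [← cj_mul, inv_mul_cancel, cj_one]

omit [Finite G] in
theorem cj_eq_of_mem_normalizer {g : G} {H : Subgroup G} (h : g ∈ normalizer (H : Set G)) : cj g H = H := by
  ext x
  rw [mem_cj, mem_normalizer_iff.mp h (g⁻¹ * x * g)]
  have : g * (g⁻¹ * x * g) * g⁻¹ = x := by group
  rw [this]

omit [Finite G] in
theorem mem_normalizer_of_cj_eq {g : G} {H : Subgroup G} (h : cj g H = H) : g ∈ normalizer (H : Set G) := by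
  rw [mem_normalizer_iff]
  intro x
  constructor
  · intro hx
    rw [← h]
    exact conj_mem_cj hx
  · intro hx
    rw [← h, mem_cj] at hx
    have : g⁻¹ * (g * x * g⁻¹) * g = x := by group
    rwa [this] at hx

omit [Finite G] in
theorem mem_normalizer_iff_cj {g : G} {H : Subgroup G} : g ∈ normalizer (H : Set G) ↔ cj g H = H :=
  ⟨cj_eq_of_mem_normalizer, mem_normalizer_of_cj_eq⟩

omit [Finite G] in
/-- `x` normalizes `cj g H` iff its conjugate normalizes `H`. -/
theorem conj_mem_normalizer_cj {g x : G} {H : Subgroup G} (h : x ∈ normalizer (H : Set G)) :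
    g * x * g⁻¹ ∈ normalizer ((cj g H : Subgroup G) : Set G) := by
  rw [mem_normalizer_iff_cj] at h ⊢
  have e : g * x * g⁻¹ * g = g * x := by group
  rw [← cj_mul, e, cj_mul, h]

omit [Finite G] in
theorem mem_normalizer_cj_iff {g x : G} {H : Subgroup G} :
    x ∈ normalizer ((cj g H : Subgroup G) : Set G) ↔ g⁻¹ * x * g ∈ normalizer (H : Set G) := by
  constructor
  · intro h
    have := conj_mem_normalizer_cj (g := g⁻¹) h
    rwa [cj_cj_inv, inv_inv] at this
  · intro h
    have := conj_mem_normalizer_cj (g := g) h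
    have e : g * (g⁻¹ * x * g) * g⁻¹ = x := by group
    rwa [e] at this

theorem Og_cj (g a : G) : cj g (Og a) = Og (g * a * g⁻¹) := by
  have key : ∀ (g a : G), cj g (Og a) ≤ Og (g * a * g⁻¹) := by
    intro g a
    refine le_oddOf ?_ ?_ ?_
    · intro x hx
      rw [mem_cj] at hx
      have h1 := mem_Cg.mp (Og_le a hx)
      refine mem_Cg.mpr ?_
      have e : x = g * (g⁻¹ * x * g) * g⁻¹ := by group
      rw [e]
      calc g * (g⁻¹ * x * g) * g⁻¹ * (g * a * g⁻¹) = g * ((g⁻¹ * x * g) * a) * g⁻¹ := by group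
        _ = g * (a * (g⁻¹ * x * g)) * g⁻¹ := by rw [h1]
        _ = _ := by group
    · have hinj : Function.Injective (MulAut.conj g).toMonoidHom := (MulAut.conj g).injective
      have : Nat.card (cj g (Og a)) = Nat.card (Og a) := Nat.card_congr (Subgroup.equivMapOfInjective _ _ hinj).symm.toEquiv
      rw [this]
      exact Og_odd a
    · intro c hc
      have h1 := mem_Cg.mp hc
      have hc' : g⁻¹ * c * g ∈ Cg a := by
        refine mem_Cg.mpr ?_
        have h2 : g⁻¹ * c * g * a = g⁻¹ * (c * (g * a * g⁻¹)) * g := by group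
        rw [h2, h1]
        group
      rw [mem_normalizer_cj_iff]
      exact Og_norm hc'
  apply le_antisymm (key g a)
  have h2 := key g⁻¹ (g * a * g⁻¹)
  have e : g⁻¹ * (g * a * g⁻¹) * g⁻¹⁻¹ = a := by group
  rw [e] at h2
  intro x hx
  have h3 := h2 (conj_mem_cj (g := g⁻¹) hx)
  rw [mem_cj]
  simpa using h3

omit [Finite G] in
theorem cj_sup (g : G) (A B : Subgroup G) : cj g (A ⊔ B) = cj g A ⊔ cj g B := Subgroup.map_sup _ _ _

omit [Finite G] in
theorem cj_inf (g : G) (A B : Subgroup G) : cj g (A ⊓ B) = cj g A ⊓ cj g B :=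
  Subgroup.map_inf _ _ _ (MulAut.conj g).injective

omit [Finite G] in
theorem cj_comm (g : G) (A B : Subgroup G) : cj g ⁅A, B⁆ = ⁅cj g A, cj g B⁆ := Subgroup.map_commutator _ _ _

omit [Finite G] in
theorem cj_zpowers (g x : G) : cj g (zpowers x) = zpowers (g * x * g⁻¹) := by
  rw [cj, MonoidHom.map_zpowers]
  rfl

theorem U_cj (g a b : G) : cj g (U a b) = U (g * a * g⁻¹) (g * b * g⁻¹) := by
  rw [U, cj_sup, cj_comm, cj_inf, Og_cj, Og_cj, cj_zpowers]

theorem W_cj (g f z : G) : cj g (W f z) = W (g * f * g⁻¹) (g * z * g⁻¹) := by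
  rw [W, cj_sup, cj_sup, cj_inf, U_cj, U_cj, U_cj, U_cj]
  have e : g * (f * z) * g⁻¹ = (g * f * g⁻¹) * (g * z * g⁻¹) := by group
  rw [e]

/-- An element commuting with `f` and `z` normalizes `W f z`. -/
theorem W_norm_of_comm {f z c : G} (h1 : c * f = f * c) (h2 : c * z = z * c) :
    c ∈ normalizer ((W f z : Subgroup G) : Set G) := by
  rw [mem_normalizer_iff_cj, W_cj]
  have e1 : c * f * c⁻¹ = f := by rw [h1]; group
  have e2 : c * z * c⁻¹ = z := by rw [h2]; group
  rw [e1, e2]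

/-- Conjugation of `2`-subgroups in a subgroup containing a Sylow subgroup. -/
theorem exists_conj_sub (S : Sylow 2 G) {N R : Subgroup G} (hSN : (S : Subgroup G) ≤ N) (hRN : R ≤ N)
    (hR : IsPGroup 2 R) : ∃ g ∈ N, ∀ r ∈ R, g⁻¹ * r * g ∈ (S : Subgroup G) := by
  have : Fact (Nat.Prime 2) := ⟨Nat.prime_two⟩
  let S' : Sylow 2 N := S.subtype hSN
  have hZ : IsPGroup 2 (R.subgroupOf N) := by
    intro x
    obtain ⟨k, hk⟩ := hR ⟨(x : G), Subgroup.mem_subgroupOf.mp x.2⟩
    refine ⟨k, Subtype.ext (Subtype.ext ?_)⟩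
    have := congrArg Subtype.val hk
    simpa using this
  obtain ⟨Q, hQ⟩ := hZ.exists_le_sylow
  obtain ⟨g, hg⟩ := MulAction.exists_smul_eq N S' Q
  refine ⟨g, g.2, ?_⟩
  intro r hr
  have hzQ : (⟨r, hRN hr⟩ : N) ∈ (Q : Subgroup N) := hQ (Subgroup.mem_subgroupOf.mpr hr)
  rw [← hg, Sylow.coe_subgroup_smul, Subgroup.mem_pointwise_smul_iff_inv_smul_mem] at hzQ
  have h1 : (MulAut.conj g)⁻¹ • (⟨r, hRN hr⟩ : N) ∈ (S' : Subgroup N) := hzQ
  rw [Sylow.coe_subtype, Subgroup.mem_subgroupOf] at h1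
  simpa [MulAut.smul_def, MulAut.conj_inv_apply] using h1

end Cfsg.Agent.Lib.ProdFusion
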