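import Mathlib
import Cfsg.Agent.Lib.ProdFusion.Conj

/-!
# The points: properties of the subgroups `W f z`
-/

set_option autoImplicit false
set_option linter.style.haveILetI false
set_option linter.unusedVariables false
set_option linter.unusedSectionVars false

namespace Cfsg.Agent.Lib.ProdFusion

open Subgroup Cfsg
open scoped commutatorElement
open Cfsg.Agent.Lib.Components.PComponent
open Cfsg.Agent.Lib.Transfer.CoreSep
open Cfsg.Agent.Lib.Coprime.Coset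

universe u

variable {G : Type u} [Group G] [Finite G]

variable {C₁ C₂ : Set G}

/-- A commuting pair of involutions of the two sets. -/
structure Pr (C₁ C₂ : Set G) (f z : G) : Prop where
  hf : f ∈ C₁
  hz : z ∈ C₂
  f2 : f * f = 1
  z2 : z * z = 1
  f1 : f ≠ 1
  z1 : z ≠ 1
  c : f * z = z * f

theorem Pr.symm {f z : G} (p : Pr C₁ C₂ f z) : Pr C₂ C₁ z f :=
  ⟨p.hz, p.hf, p.z2, p.f2, p.z1, p.f1, p.c.symm⟩

omit [Finite G] in
theorem conj_invol {g x : G} (h : x * x = 1) : (g * x * g⁻¹) * (g * x * g⁻¹) = 1 := by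
  have : (g * x * g⁻¹) * (g * x * g⁻¹) = g * (x * x) * g⁻¹ := by group
  rw [this, h]; group

omit [Finite G] in
theorem conj_ne_one {g x : G} (h : x ≠ 1) : g * x * g⁻¹ ≠ 1 := by
  intro e
  apply h
  have : x = g⁻¹ * (g * x * g⁻¹) * g := by group
  rw [this, e]; group

omit [Finite G] in
theorem conj_comm {g x y : G} (h : x * y = y * x) : (g * x * g⁻¹) * (g * y * g⁻¹) = (g * y * g⁻¹) * (g * x * g⁻¹) := by
  have e1 : (g * x * g⁻¹) * (g * y * g⁻¹) = g * (x * y) * g⁻¹ := by group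
  have e2 : (g * y * g⁻¹) * (g * x * g⁻¹) = g * (y * x) * g⁻¹ := by group
  rw [e1, e2, h]

theorem Pr.conj (h : SC C₁ C₂) {f z : G} (p : Pr C₁ C₂ f z) (g : G) : Pr C₁ C₂ (g * f * g⁻¹) (g * z * g⁻¹) :=
  ⟨h.conj₁ _ p.hf g, h.conj₂ _ p.hz g, conj_invol p.f2, conj_invol p.z2, conj_ne_one p.f1, conj_ne_one p.z1,
    conj_comm p.c⟩

theorem Pr.t_ne_one (h : SC C₁ C₂) {f z : G} (p : Pr C₁ C₂ f z) : f * z ≠ 1 := by
  intro e
  have hfz : f = z := by
    calc f = f * (z * z) := by rw [p.z2, mul_one]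
      _ = (f * z) * z := by rw [mul_assoc]
      _ = z := by rw [e, one_mul]
  exact p.f1 (h.disj f p.hf (hfz ▸ p.hz))

theorem Pr.exists_sylow {f z : G} (p : Pr C₁ C₂ f z) :
    ∃ Q : Sylow 2 G, f ∈ (Q : Subgroup G) ∧ z ∈ (Q : Subgroup G) := exists_sylow_of_invol p.f2 p.z2 p.c

theorem Pr.t2 {f z : G} (p : Pr C₁ C₂ f z) : (f * z) * (f * z) = 1 := by
  rw [mul_assoc, ← mul_assoc z, ← p.c, mul_assoc f, p.z2, mul_one, p.f2]

theorem Pr.f_mem_Cg {f z : G} (p : Pr C₁ C₂ f z) : f ∈ Cg (f * z) :=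
  mem_Cg.mpr (by rw [← mul_assoc, p.f2, one_mul, p.c, mul_assoc, p.f2, mul_one])

theorem Pr.z_mem_Cg {f z : G} (p : Pr C₁ C₂ f z) : z ∈ Cg (f * z) :=
  mem_Cg.mpr (by rw [← mul_assoc, ← p.c])

section

variable (h : Ctx C₁ C₂)
include h

/-- A Sylow subgroup containing the pair normalizes the point of the pair. -/
theorem Ctx.sylow_le_N (Q : Sylow 2 G) {f z : G} (p : Pr C₁ C₂ f z) (hfQ : f ∈ (Q : Subgroup G))
    (hzQ : z ∈ (Q : Subgroup G)) : (Q : Subgroup G) ≤ normalizer ((W f z : Subgroup G) : Set G) := by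
  intro q hq
  rw [mem_normalizer_iff_cj, W_cj]
  have p' := p.conj h.sc q
  exact h.W_const Q p'.hf p.hf p'.hz p.hz (mul_mem (mul_mem hq hfQ) (inv_mem hq)) hfQ
    (mul_mem (mul_mem hq hzQ) (inv_mem hq)) hzQ p'.f2 p.f2 p'.z2 p.z2 p'.f1 p.f1 p'.z1 p.z1

/-- The main commutator containment. -/
theorem Ctx.comm_f_z_le {f z : G} : ⁅Og f, zpowers z⁆ ≤ W f z :=
  (le_sup_left : ⁅Og f, zpowers z⁆ ≤ U f z).trans
    ((le_sup_left : U f z ≤ U f z ⊔ U z f).trans (le_sup_left : U f z ⊔ U z f ≤ W f z))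

theorem Ctx.comm_t_f_le {f z : G} (p : Pr C₁ C₂ f z) : ⁅Og (f * z), zpowers f⁆ ≤ W f z := by
  refine le_trans ?_ (le_sup_right : _ ≤ W f z)
  refine le_inf le_sup_left ?_
  refine le_trans ?_ (le_sup_left : _ ≤ U (f * z) z)
  refine commutator_le.mpr fun o ho g hg => ?_
  rcases mem_zpowers_of_mul_self p.f2 hg with rfl | rfl
  · simp [one_mem]
  · have hoc := mem_Cg.mp (Og_le _ ho)
    have e : ⁅o, g⁆ = ⁅o, z⁆ := by
      simp only [commutatorElement_def]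
      have e2 : o * (g * z) * o⁻¹ = g * z := by rw [hoc]; group
      have e3 : o * z * o⁻¹ = o * g⁻¹ * o⁻¹ * (g * z) := by
        calc o * z * o⁻¹ = o * g⁻¹ * o⁻¹ * (o * (g * z) * o⁻¹) := by group
          _ = _ := by rw [e2]
      have gi : g⁻¹ = g := inv_eq_of_mul_eq_one_left p.f2
      rw [e3, gi]
      have : o * g * o⁻¹ * (g * z) * z⁻¹ = o * g * o⁻¹ * g := by group
      rw [this]
    rw [e]
    exact commutator_mem_commutator ho (mem_zpowers z)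

/-- `O_f` normalizes `W f z`. -/
theorem Ctx.O_f_norm {f z : G} (p : Pr C₁ C₂ f z) : Og f ≤ normalizer ((W f z : Subgroup G) : Set G) := by
  intro o ho
  obtain ⟨c, hc, hcz, hd⟩ := decomp_inv p.z2 (Og_norm (mem_Cg.mpr p.c.symm)) (Og_odd f) ho
  have hod : o = c * (o⁻¹ * c)⁻¹ := by group
  rw [hod]
  refine mul_mem (W_norm_of_comm (mem_Cg.mp (Og_le f hc)) hcz.symm) (inv_mem (le_normalizer ?_))
  exact h.comm_f_z_le hd

/-- `O_t` normalizes `W f z`. -/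
theorem Ctx.O_t_norm {f z : G} (p : Pr C₁ C₂ f z) : Og (f * z) ≤ normalizer ((W f z : Subgroup G) : Set G) := by
  intro o ho
  obtain ⟨c, hc, hcf, hd⟩ := decomp_inv p.f2 (Og_norm p.f_mem_Cg) (Og_odd _) ho
  have hod : o = c * (o⁻¹ * c)⁻¹ := by group
  rw [hod]
  refine mul_mem ?_ (inv_mem (le_normalizer (h.comm_t_f_le p hd)))
  have hct := mem_Cg.mp (Og_le _ hc)
  refine W_norm_of_comm hcf.symm ?_
  have hz : z = f * (f * z) := by rw [← mul_assoc, p.f2, one_mul]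
  calc c * z = c * (f * (f * z)) := by rw [← hz]
    _ = (c * f) * (f * z) := by rw [mul_assoc]
    _ = (f * c) * (f * z) := by rw [hcf]
    _ = f * (c * (f * z)) := by rw [mul_assoc]
    _ = f * ((f * z) * c) := by rw [hct]
    _ = z * c := by rw [← mul_assoc, ← hz]

/-- `C(t)` normalizes `W f z`. -/
theorem Ctx.C_t_norm {f z : G} (p : Pr C₁ C₂ f z) : Cg (f * z) ≤ normalizer ((W f z : Subgroup G) : Set G) := by
  intro c hc
  have h1 := h.zstar_t p.hf p.hz p.f2 p.z2 p.c p.f1 hc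
  have hcN : c⁻¹ ∈ normalizer (Og (f * z) : Set G) := Og_norm (inv_mem hc)
  have h2 : c⁻¹ * (f * c * f⁻¹) ∈ Og (f * z) := by
    have := (mem_normalizer_iff.mp hcN _).mp h1
    have e : c⁻¹ * (f * c * f⁻¹ * c⁻¹) * c⁻¹⁻¹ = c⁻¹ * (f * c * f⁻¹) := by group
    rwa [e] at this
  obtain ⟨o, ho, hco⟩ := exists_commute_mul p.f2 (Og_norm p.f_mem_Cg) (Og_odd _) h2
  have hc' : c * o ∈ Cg (f * z) := mul_mem hc (Og_le _ ho)
  have hct := mem_Cg.mp hc'
  have hN : c * o ∈ normalizer ((W f z : Subgroup G) : Set G) := by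
    refine W_norm_of_comm hco.symm ?_
    have hz : z = f * (f * z) := by rw [← mul_assoc, p.f2, one_mul]
    calc (c * o) * z = (c * o) * (f * (f * z)) := by rw [← hz]
      _ = ((c * o) * f) * (f * z) := by simp only [mul_assoc]
      _ = (f * (c * o)) * (f * z) := by rw [hco]
      _ = f * ((c * o) * (f * z)) := by simp only [mul_assoc]
      _ = f * ((f * z) * (c * o)) := by rw [hct]
      _ = z * (c * o) := by rw [← mul_assoc, ← hz]
  have e : c = (c * o) * o⁻¹ := by group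
  rw [e]
  exact mul_mem hN (inv_mem (h.O_t_norm p ho))

end

/-- The points. -/
def Pts (C₁ C₂ : Set G) : Set (Subgroup G) := {β | ∃ f z, Pr C₁ C₂ f z ∧ β = W f z}

/-- The points normalized by `x`. -/
def Fix (C₁ C₂ : Set G) (x : G) : Set (Subgroup G) := {β | β ∈ Pts C₁ C₂ ∧ x ∈ normalizer (β : Set G)}

theorem Pts_symm : Pts C₂ C₁ = Pts C₁ C₂ := by
  ext β
  constructor
  · rintro ⟨f, z, p, rfl⟩
    exact ⟨z, f, p.symm, W_comm p.c⟩
  · rintro ⟨f, z, p, rfl⟩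
    exact ⟨z, f, p.symm, W_comm p.c⟩

theorem Pts_conj (h : SC C₁ C₂) {β : Subgroup G} (hβ : β ∈ Pts C₁ C₂) (g : G) : cj g β ∈ Pts C₁ C₂ := by
  obtain ⟨f, z, p, rfl⟩ := hβ
  exact ⟨_, _, p.conj h g, W_cj g f z⟩

section

variable (h : Ctx C₁ C₂)
include h

/-- If `R` is a `2`-subgroup normalizing a point, the point is that of a Sylow subgroup containing `R`
(up to conjugacy in its normalizer). -/
theorem Ctx.exists_sylow_point {β : Subgroup G} (hβ : β ∈ Pts C₁ C₂) {R : Subgroup G}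
    (hR : IsPGroup 2 R) (hRβ : R ≤ normalizer (β : Set G)) :
    ∃ (Q : Sylow 2 G) (f z : G), Pr C₁ C₂ f z ∧ f ∈ (Q : Subgroup G) ∧ z ∈ (Q : Subgroup G) ∧
      R ≤ (Q : Subgroup G) ∧ β = W f z := by
  obtain ⟨f₀, z₀, p, rfl⟩ := hβ
  obtain ⟨Q₀, hf₀, hz₀⟩ := p.exists_sylow
  have hle := h.sylow_le_N Q₀ p hf₀ hz₀
  obtain ⟨m, hm, hmR⟩ := exists_conj_sub Q₀ hle hRβ hR
  let Q : Sylow 2 G := m • Q₀
  have hmem : ∀ {x : G}, x ∈ (Q₀ : Subgroup G) → m * x * m⁻¹ ∈ (Q : Subgroup G) := by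
    intro x hx
    rw [Sylow.coe_subgroup_smul]
    exact ⟨x, hx, rfl⟩
  refine ⟨Q, m * f₀ * m⁻¹, m * z₀ * m⁻¹, p.conj h.sc m, hmem hf₀, hmem hz₀, ?_, ?_⟩
  · intro r hr
    have := hmem (hmR r hr)
    have e : m * (m⁻¹ * r * m) * m⁻¹ = r := by group
    rwa [e] at this
  · rw [← W_cj, cj_eq_of_mem_normalizer hm]

/-- P1. -/
theorem Ctx.P1 {x : G} (hx : x ∈ C₁) (x2 : x * x = 1) (x1 : x ≠ 1) {β : Subgroup G} (hβ : β ∈ Fix C₁ C₂ x) :
    ∃ z, Pr C₁ C₂ x z ∧ β = W x z := by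
  obtain ⟨Q, f, z, p, hfQ, hzQ, hR, rfl⟩ := h.exists_sylow_point hβ.1 (isPGroup_zpowers_of_mul_self x2)
    ((zpowers_le).mpr hβ.2)
  have hxQ : x ∈ (Q : Subgroup G) := hR (mem_zpowers x)
  refine ⟨z, ⟨hx, p.hz, x2, p.z2, x1, p.z1, h.sc.comm _ (sylow_isP Q) _ hxQ _ hzQ hx p.hz⟩, ?_⟩
  exact h.W_const Q p.hf hx p.hz p.hz hfQ hxQ hzQ hzQ p.f2 x2 p.z2 p.z2 p.f1 x1 p.z1 p.z1

/-- P2. -/
theorem Ctx.P2 {x z : G} (p : Pr C₁ C₂ x z) {β : Subgroup G} (hβ : β ∈ Pts C₁ C₂)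
    (hx : x ∈ normalizer (β : Set G)) (hz : z ∈ normalizer (β : Set G)) : β = W x z := by
  have hR : IsPGroup 2 (klein x z) :=
    Cfsg.Agent.Lib.Signalizer.TwoCore.isPGroup_of_sq (klein_ea p.f2 p.z2 p.c).2
  have hle : klein x z ≤ normalizer (β : Set G) := by
    refine (closure_le _).mpr ?_
    rintro a (rfl | rfl)
    · exact hx
    · exact hz
  obtain ⟨Q, f, z', p', hfQ, hzQ, hRQ, rfl⟩ := h.exists_sylow_point hβ hR hle
  exact h.W_const Q p'.hf p.hf p'.hz p.hz hfQ (hRQ (klein_f_mem _ _)) hzQ (hRQ (klein_e_mem _ _))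
    p'.f2 p.f2 p'.z2 p.z2 p'.f1 p.f1 p'.z1 p.z1

/-- P4. -/
theorem Ctx.P4 {x : G} (hx : x ∈ C₁) (x2 : x * x = 1) (x1 : x ≠ 1) {β : Subgroup G} (hβ : β ∈ Fix C₁ C₂ x) :
    Og x ≤ normalizer (β : Set G) := by
  obtain ⟨z, p, rfl⟩ := h.P1 hx x2 x1 hβ
  exact h.O_f_norm p

end

end Cfsg.Agent.Lib.ProdFusion
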