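import Mathlib
import Cfsg.Agent.Lib.ProdFusion.Points

/-!
# Transitivity on the fixed points and invariance of the set of fixed points
-/

set_option autoImplicit false
set_option linter.style.haveILetI false
set_option linter.unusedVariables false
set_option linter.unusedSectionVars false

namespace Cfsg.Agent.Lib.ProdFusion

open Subgroup Cfsg
open scoped commutatorElement
open Cfsg.Agent.Lib.Components.PComponent
open Cfsg.Agent.Lib.Transfer.CoreSep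
open Cfsg.Agent.Lib.Coprime.Coset

universe u

variable {G : Type u} [Group G] [Finite G]

variable {C₁ C₂ : Set G}

/-- Two involutions of `C₂`: either conjugate by a power of their product, or their product has a power that
is an involution of `C₂` commuting with both. -/
theorem SC.two_invol₂ (h : SC C₁ C₂) {a b : G} (ha : a ∈ C₂) (hb : b ∈ C₂) (a2 : a * a = 1) (b2 : b * b = 1) :
    (∃ c ∈ zpowers (a * b), c * a * c⁻¹ = b) ∨
      (∃ u, u ∈ C₂ ∧ u * u = 1 ∧ u ≠ 1 ∧ u ∈ zpowers (a * b) ∧ u * a = a * u ∧ u * b = b * u) := by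
  classical
  set s := a * b with hs
  have hai : a⁻¹ = a := inv_eq_of_mul_eq_one_left a2
  have hbi : b⁻¹ = b := inv_eq_of_mul_eq_one_left b2
  have hsi : s⁻¹ = b * a := by rw [hs, mul_inv_rev, hai, hbi]
  have has : SemiconjBy a s s⁻¹ := by
    change a * s = s⁻¹ * a
    rw [hsi, hs, ← mul_assoc, a2, one_mul, mul_assoc, a2, mul_one]
  have hbs : SemiconjBy b s s⁻¹ := by
    change b * s = s⁻¹ * b
    rw [hsi, hs, mul_assoc]
  have hak : ∀ k : ℤ, a * s ^ k = s ^ (-k) * a := by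
    intro k
    have := (has.zpow_right k).eq
    rwa [inv_zpow', ] at this
  have hbk : ∀ k : ℤ, b * s ^ k = s ^ (-k) * b := by
    intro k
    have := (hbs.zpow_right k).eq
    rwa [inv_zpow', ] at this
  have hn : orderOf s ≠ 0 := (orderOf_pos s).ne'
  obtain ⟨e, m, hm, hnm⟩ := Nat.exists_eq_two_pow_mul_odd hn
  obtain ⟨l, hl⟩ := hm
  have hmz : (m : ℤ) = 2 * l + 1 := by rw [hl]; push_cast; ring
  have hsn : s ^ (((2 ^ e * m : ℕ)) : ℤ) = 1 := by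
    rw [← hnm, zpow_natCast, pow_orderOf_eq_one]
  rcases Nat.eq_zero_or_pos e with rfl | he
  · left
    refine ⟨s ^ (l : ℤ), zpow_mem_zpowers _ _, ?_⟩
    have hs1 : s ^ (2 * (l : ℤ) + 1) = 1 := by
      rw [← hmz]; simpa using hsn
    have h2l : s ^ (2 * (l : ℤ)) = s⁻¹ := by
      rw [eq_inv_iff_mul_eq_one, ← zpow_add_one, hs1]
    rw [mul_assoc, ← zpow_neg, hak, ← mul_assoc, ← zpow_add]
    have : (l : ℤ) + - -(l : ℤ) = 2 * (l : ℤ) := by ring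
    rw [this, h2l, hsi, mul_assoc, a2, mul_one]
  · right
    set r := s ^ (m : ℤ) with hr
    set y'' := s ^ (-(l : ℤ)) * b * s ^ (l : ℤ) with hy''
    have hy''C : y'' ∈ C₂ := by
      have := h.conj₂ b hb (s ^ (-(l : ℤ)))
      rwa [zpow_neg, inv_inv, ← zpow_neg] at this
    have hy''e : y'' = s ^ (-(2 * l : ℤ)) * b := by
      rw [hy'', mul_assoc, hbk, ← mul_assoc, ← zpow_add]
      congr 2
      ring
    have hay'' : a * y'' = r := by
      rw [hy''e, ← mul_assoc, hak, mul_assoc, ← hs, ← zpow_add_one, hr, hmz]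
      congr 1
      ring
    have hy''a : y'' = a * r := by
      rw [← hay'', ← mul_assoc, a2, one_mul]
    have hr2e : r ^ 2 ^ e = 1 := by
      rw [hr, ← zpow_natCast, ← zpow_mul]
      have : ((m : ℤ) * ((2 ^ e : ℕ) : ℤ)) = ((2 ^ e * m : ℕ) : ℤ) := by
        push_cast; ring
      rw [this, hsn]
    have hrn : a ∈ normalizer ((zpowers r : Subgroup G) : Set G) := by
      have key : ∀ g ∈ zpowers r, a * g * a⁻¹ ∈ zpowers r := by
        intro g hg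
        obtain ⟨k, rfl⟩ := mem_zpowers_iff.mp hg
        have : a * r ^ k * a⁻¹ = (r ^ k)⁻¹ := by
          rw [hr, ← zpow_mul, hak, ← zpow_neg]
          simp [mul_assoc]
        rw [this]
        exact inv_mem hg
      exact Cfsg.Agent.Lib.Transfer.CoreSep.mem_normalizer_of_conj'
        (fun g hg => by simpa [hai] using key g hg) key
    have hQ := isPGroup_sup_zpowers (R := zpowers r) (isPGroup_zpowers_of_two hr2e) (k := 1)
      (by simpa [pow_two] using a2) hrn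
    have haQ : a ∈ zpowers r ⊔ zpowers a := mem_sup_right (mem_zpowers a)
    have hrQ : r ∈ zpowers r ⊔ zpowers a := mem_sup_left (mem_zpowers r)
    have hrC : r ∈ C₂ := by
      rw [← hay'']
      exact h.mul₂ _ hQ _ haQ _ (by rw [hy''a]; exact mul_mem haQ hrQ) ha hy''C
    obtain ⟨e', rfl⟩ : ∃ e', e = e' + 1 := ⟨e - 1, by omega⟩
    have hu1 : r ^ 2 ^ e' = s ^ ((m * 2 ^ e' : ℕ) : ℤ) := by
      rw [hr, ← zpow_natCast, ← zpow_mul]
      push_cast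
      rfl
    have hu2 : r ^ 2 ^ e' * r ^ 2 ^ e' = 1 := by
      rw [← pow_add]
      have e3 : 2 ^ e' + 2 ^ e' = 2 ^ (e' + 1) := by ring
      rw [e3, hr2e]
    have hui : (r ^ 2 ^ e')⁻¹ = r ^ 2 ^ e' := inv_eq_of_mul_eq_one_left hu2
    refine ⟨r ^ 2 ^ e', h.pow₂ hrC _, hu2, ?_, ?_, ?_, ?_⟩
    · intro e0
      rw [hu1, zpow_natCast] at e0
      have hd := orderOf_dvd_of_pow_eq_one e0
      rw [hnm] at hd
      have hpos : 0 < m * 2 ^ e' := Nat.mul_pos (by omega) (by positivity)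
      have := Nat.le_of_dvd hpos hd
      have e2 : 2 ^ (e' + 1) * m = 2 * (m * 2 ^ e') := by ring
      omega
    · rw [hu1]
      exact zpow_mem_zpowers _ _
    · have := hak ((m * 2 ^ e' : ℕ) : ℤ)
      rw [zpow_neg, ← hu1, hui] at this
      exact this.symm
    · have := hbk ((m * 2 ^ e' : ℕ) : ℤ)
      rw [zpow_neg, ← hu1, hui] at this
      exact this.symm

/-- Three pairwise commuting elements of order dividing two lie in a common Sylow subgroup. -/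
theorem exists_sylow_three {x y z : G} (x2 : x * x = 1) (y2 : y * y = 1) (z2 : z * z = 1) (hxy : x * y = y * x)
    (hxz : x * z = z * x) (hyz : y * z = z * y) :
    ∃ Q : Sylow 2 G, x ∈ (Q : Subgroup G) ∧ y ∈ (Q : Subgroup G) ∧ z ∈ (Q : Subgroup G) := by
  have : Fact (Nat.Prime 2) := ⟨Nat.prime_two⟩
  have hR : IsPGroup 2 (klein y z) :=
    Cfsg.Agent.Lib.Signalizer.TwoCore.isPGroup_of_sq (klein_ea y2 z2 hyz).2
  have hn : x ∈ normalizer ((klein y z : Subgroup G) : Set G) := by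
    refine centralizer_le_normalizer' _ (mem_centralizer_iff.mpr fun g hg => ?_)
    rcases klein_mem y2 z2 hyz hg with rfl | rfl | rfl | rfl
    · simp
    · exact hxy.symm
    · exact hxz.symm
    · rw [mul_assoc, ← hxz, ← mul_assoc, ← hxy, mul_assoc]
  have hP := isPGroup_sup_zpowers hR (k := 1) (by simpa [pow_two] using x2) hn
  obtain ⟨Q, hQ⟩ := hP.exists_le_sylow
  exact ⟨Q, hQ (mem_sup_right (mem_zpowers x)), hQ (mem_sup_left (klein_f_mem _ _)),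
    hQ (mem_sup_left (klein_e_mem _ _))⟩

section

variable (h : Ctx C₁ C₂)
include h

/-- P3: transitivity on the fixed points. -/
theorem Ctx.P3 {x : G} (hx : x ∈ C₁) (x2 : x * x = 1) (x1 : x ≠ 1) {β β' : Subgroup G} (hβ : β ∈ Fix C₁ C₂ x)
    (hβ' : β' ∈ Fix C₁ C₂ x) : ∃ c ∈ Nn C₂ (Cg x), cj c β = β' := by
  obtain ⟨z, p, rfl⟩ := h.P1 hx x2 x1 hβ
  obtain ⟨z', p', rfl⟩ := h.P1 hx x2 x1 hβ'
  have hzC : z ∈ Cg x := mem_Cg.mpr p.c.symm
  have hz'C : z' ∈ Cg x := mem_Cg.mpr p'.c.symm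
  have hs : z * z' ∈ Nn C₂ (Cg x) := mul_mem (mem_Nn p.hz hzC) (mem_Nn p'.hz hz'C)
  have hle : zpowers (z * z') ≤ Nn C₂ (Cg x) := zpowers_le.mpr hs
  rcases h.sc.two_invol₂ p.hz p'.hz p.z2 p'.z2 with ⟨c, hc, e⟩ | ⟨u, hu, u2, u1, hus, huz, huz'⟩
  · refine ⟨c, hle hc, ?_⟩
    rw [W_cj, e]
    have hcx := mem_Cg.mp ((Nn_le _ _) (hle hc))
    have : c * x * c⁻¹ = x := by rw [hcx]; group
    rw [this]
  · refine ⟨1, one_mem _, ?_⟩
    rw [cj_one]
    have huC : u ∈ Cg x := (Nn_le _ _) (hle hus)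
    have hxu : x * u = u * x := (mem_Cg.mp huC).symm
    obtain ⟨Q, hxQ, hzQ, huQ⟩ := exists_sylow_three x2 p.z2 u2 p.c hxu huz.symm
    obtain ⟨Q', hxQ', hzQ', huQ'⟩ := exists_sylow_three x2 p'.z2 u2 p'.c hxu huz'.symm
    have e1 := h.W_const Q hx hx p.hz hu hxQ hxQ hzQ huQ x2 x2 p.z2 u2 x1 x1 p.z1 u1
    have e2 := h.W_const Q' hx hx hu p'.hz hxQ' hxQ' huQ' hzQ' x2 x2 u2 p'.z2 x1 x1 u1 p'.z1
    rw [e1, e2]

/-- The non-centrality of an involution of `C₁`. -/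
theorem Ctx.Cg_ne_top₁ {x : G} (hx : x ∈ C₁) (x2 : x * x = 1) (x1 : x ≠ 1) : Cg x ≠ ⊤ :=
  centralizer_ne_top_of (h.nc₁ x hx x2 x1)

/-- P5: commuting involutions of `C₁` fix the same points. -/
theorem Ctx.P5 {x x' : G} (hx : x ∈ C₁) (hx' : x' ∈ C₁) (x2 : x * x = 1) (x'2 : x' * x' = 1) (x1 : x ≠ 1)
    (x'1 : x' ≠ 1) (hc : x * x' = x' * x) {β : Subgroup G} (hβ : β ∈ Fix C₁ C₂ x) : β ∈ Fix C₁ C₂ x' := by
  obtain ⟨z, p, rfl⟩ := h.P1 hx x2 x1 hβ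
  obtain ⟨Q, hxQ, hx'Q⟩ := exists_sylow_of_invol x2 x'2 hc
  obtain ⟨Q₁, hzQ₁⟩ := exists_sylow_of_invol (x := z) (y := z) p.z2 p.z2 rfl |>.imp fun _ h => h.1
  obtain ⟨g, hg⟩ := MulAction.exists_smul_eq G Q₁ Q
  have hz₀Q : g * z * g⁻¹ ∈ (Q : Subgroup G) := by
    rw [← hg, Sylow.coe_subgroup_smul]
    exact ⟨z, hzQ₁, rfl⟩
  have hz₀ : g * z * g⁻¹ ∈ C₂ := h.sc.conj₂ z p.hz g
  set z₀ := g * z * g⁻¹ with hz₀def
  have z₀2 : z₀ * z₀ = 1 := conj_invol p.z2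
  have z₀1 : z₀ ≠ 1 := conj_ne_one p.z1
  have hcomm : x * z₀ = z₀ * x := h.sc.comm _ (sylow_isP Q) _ hxQ _ hz₀Q hx hz₀
  have p₀ : Pr C₁ C₂ x z₀ := ⟨hx, hz₀, x2, z₀2, x1, z₀1, hcomm⟩
  have hcomm' : x' * z₀ = z₀ * x' := h.sc.comm _ (sylow_isP Q) _ hx'Q _ hz₀Q hx' hz₀
  have hfix₀ : W x z₀ ∈ Fix C₁ C₂ x := ⟨⟨x, z₀, p₀, rfl⟩, h.sylow_le_N Q p₀ hxQ hz₀Q hxQ⟩
  have hN' : x' ∈ normalizer ((W x z₀ : Subgroup G) : Set G) := h.sylow_le_N Q p₀ hxQ hz₀Q hx'Q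
  obtain ⟨c, hcn, hcβ⟩ := h.P3 hx x2 x1 hfix₀ hβ
  refine ⟨hβ.1, ?_⟩
  rw [← hcβ, mem_normalizer_cj_iff]
  have hcom : ⁅x', c⁻¹⁆ ∈ oddOf (Cg x) :=
    h.ih_elem (h.Cg_ne_top₁ hx x2 x1) (mem_Nn hx' (mem_Cg.mpr hc.symm)) (inv_mem hcn)
  have e : c⁻¹ * x' * c⁻¹⁻¹ = ⁅x', c⁻¹⁆⁻¹ * x' := by
    rw [commutatorElement_def]; group
  have hOg : ⁅x', c⁻¹⁆⁻¹ ∈ Og x := inv_mem hcom
  have e' : c⁻¹ * x' * c = c⁻¹ * x' * c⁻¹⁻¹ := by simp
  rw [e', e]
  exact mul_mem (h.P4 hx x2 x1 hfix₀ hOg) hN'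

end

end Cfsg.Agent.Lib.ProdFusion
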