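import Mathlib
import Cfsg.Agent.Lib.ProdFusion.Points2

/-!
# The stabilizers of the sets of fixed points; commuting of the involutions
-/

set_option autoImplicit false
set_option linter.style.haveILetI false
set_option linter.unusedVariables false
set_option linter.unusedSectionVars false

namespace Cfsg.Agent.Lib.ProdFusion

open Subgroup Cfsg
open scoped commutatorElement
open Cfsg.Agent.Lib.Components.PComponent
open Cfsg.Agent.Lib.Transfer.CoreSep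
open Cfsg.Agent.Lib.Coprime.Coset

universe u

variable {G : Type u} [Group G] [Finite G]

variable {C₁ C₂ : Set G}

/-- The stabilizer of the set of points fixed by `x`. -/
def stabFix (C₁ C₂ : Set G) (x : G) : Subgroup G where
  carrier := {g | ∀ β, β ∈ Fix C₁ C₂ x ↔ cj g β ∈ Fix C₁ C₂ x}
  mul_mem' := by
    intro a b ha hb β
    rw [cj_mul, ← ha, ← hb]
  one_mem' := by
    intro β
    rw [cj_one]
  inv_mem' := by
    intro a ha β
    rw [ha (cj a⁻¹ β), cj_inv_cj]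

theorem mem_stabFix {x g : G} : g ∈ stabFix C₁ C₂ x ↔ ∀ β, β ∈ Fix C₁ C₂ x ↔ cj g β ∈ Fix C₁ C₂ x := Iff.rfl

theorem mem_stabFix_of {x g : G} (h1 : ∀ β ∈ Fix C₁ C₂ x, cj g β ∈ Fix C₁ C₂ x)
    (h2 : ∀ β ∈ Fix C₁ C₂ x, cj g⁻¹ β ∈ Fix C₁ C₂ x) : g ∈ stabFix C₁ C₂ x := by
  intro β
  refine ⟨h1 β, fun hβ => ?_⟩
  have := h2 _ hβ
  rwa [cj_cj_inv] at this

theorem Cg_le_stabFix (hs : SC C₁ C₂) (x : G) : Cg x ≤ stabFix C₁ C₂ x := by
  have key : ∀ g ∈ Cg x, ∀ β ∈ Fix C₁ C₂ x, cj g β ∈ Fix C₁ C₂ x := by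
    intro g hg β hβ
    refine ⟨Pts_conj hs hβ.1 g, ?_⟩
    rw [mem_normalizer_cj_iff]
    have : g⁻¹ * x * g = x := by
      rw [mul_assoc, ← mem_Cg.mp hg]; group
    rw [this]
    exact hβ.2
  exact fun g hg => mem_stabFix_of (key g hg) (key _ (inv_mem hg))

section

variable (h : Ctx C₁ C₂)
include h

theorem Ctx.Fix_eq {x x' : G} (hx : x ∈ C₁) (hx' : x' ∈ C₁) (x2 : x * x = 1) (x'2 : x' * x' = 1) (x1 : x ≠ 1)
    (x'1 : x' ≠ 1) (hc : x * x' = x' * x) : Fix C₁ C₂ x = Fix C₁ C₂ x' := by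
  ext β
  exact ⟨fun hβ => h.P5 hx hx' x2 x'2 x1 x'1 hc hβ, fun hβ => h.P5 hx' hx x'2 x2 x'1 x1 hc.symm hβ⟩

/-- P6: the odd core of the normalizer of a fixed point stabilizes the fixed points. -/
theorem Ctx.P6 {x : G} (hx : x ∈ C₁) (x2 : x * x = 1) (x1 : x ≠ 1) {α : Subgroup G} (hα : α ∈ Fix C₁ C₂ x) :
    oddOf (normalizer (α : Set G)) ≤ stabFix C₁ C₂ x := by
  obtain ⟨z, p, rfl⟩ := h.P1 hx x2 x1 hα
  obtain ⟨Q, hxQ, hzQ⟩ := p.exists_sylow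
  have hQN := h.sylow_le_N Q p hxQ hzQ
  obtain ⟨f', hf', hf'Q, f'2, f'1, hne, hcf⟩ := h.exists_partner₁ Q hx hxQ x2 x1
  have hV := klein_ea x2 f'2 hcf
  have hV4 : 4 ≤ Nat.card (klein x f') := (klein_card x2 f'2 hcf x1 f'1 hne.symm).ge
  have hVQ : klein x f' ≤ (Q : Subgroup G) := by
    refine (closure_le _).mpr ?_
    rintro a (rfl | rfl)
    · exact hxQ
    · exact hf'Q
  have hodd : ¬ 2 ∣ Nat.card (oddOf (normalizer ((W x z : Subgroup G) : Set G))) :=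
    fun hd => (Nat.not_even_iff_odd.mpr (oddOf_odd _)) (even_iff_two_dvd.mpr hd)
  refine (Cfsg.Agent.Lib.Signalizer.TwoCore.le_iSup_inf_centralizer_four hV hV4 hodd
    (fun v hv => oddOf_norm (le_normalizer (hQN (hVQ hv))))).trans (iSup_le ?_)
  rintro ⟨a, ha, ha1⟩
  refine inf_le_right.trans ?_
  have haQ := hVQ ha
  have haC : a ∈ C₁ := by
    rcases klein_mem x2 f'2 hcf ha with rfl | rfl | rfl | rfl
    · exact h.sc.one₁
    · exact hx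
    · exact hf'
    · exact h.sc.mul₁ _ (sylow_isP Q) _ hxQ _ hf'Q hx hf'
  have ha2 : a * a = 1 := by
    have := hV.2 a ha
    simpa [pow_two] using this
  have hax : x * a = a * x := by
    rcases klein_mem x2 f'2 hcf ha with rfl | rfl | rfl | rfl
    · simp
    · rfl
    · exact hcf
    · rw [mul_assoc x f' x, ← hcf]
  have hFix := h.Fix_eq hx haC x2 ha2 x1 ha1 hax
  intro b hb
  have hb' := Cg_le_stabFix h.sc a hb
  intro β
  rw [hFix]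
  exact hb' β

/-- The commutator of an involution of each set, when nontrivial, has an odd-order invariant point. -/
theorem Ctx.P7core {x y : G} (hx : x ∈ C₁) (hy : y ∈ C₂) (x2 : x * x = 1) (y2 : y * y = 1) (x1 : x ≠ 1)
    (y1 : y ≠ 1) (hw : ⁅x, y⁆ ≠ 1) :
    ∃ y' c, Pr C₁ C₂ x y' ∧ y = c * y' * c⁻¹ ∧ c ∈ zpowers ⁅x, y⁆ ∧
      ⁅x, y⁆ ∈ oddOf (normalizer ((W x y' : Subgroup G) : Set G)) := by
  obtain ⟨y', c, hy', hye, hc, hxy', hty, hodd⟩ := h.sc.dihedral hx hy x2 y2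
  have hy'e : y' = c⁻¹ * y * c := by rw [hye]; group
  have y'2 : y' * y' = 1 := by
    have := conj_invol (g := c⁻¹) y2
    rwa [inv_inv, ← hy'e] at this
  have y'1 : y' ≠ 1 := by
    rintro rfl
    apply y1
    rw [hye]; group
  have p : Pr C₁ C₂ x y' := ⟨hx, hy', x2, y'2, x1, y'1, hxy'⟩
  have hCt : Cg (x * y') ≠ ⊤ :=
    centralizer_ne_top_of (h.not_central p.hf p.hz p.f2 p.z2 p.c (p.t_ne_one h.sc))
  have hxt : x ∈ Cg (x * y') := p.f_mem_Cg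
  have hyt : y ∈ Cg (x * y') := mem_Cg.mpr hty.symm
  have hwO : ⁅x, y⁆ ∈ Og (x * y') := h.ih_elem hCt (mem_Nn hx hxt) (mem_Nn hy hyt)
  have hxi : x⁻¹ = x := inv_eq_of_mul_eq_one_left x2
  have hyi : y⁻¹ = y := inv_eq_of_mul_eq_one_left y2
  have hww : ⁅⁅x, y⁆, x⁆ = ⁅x, y⁆ * ⁅x, y⁆ := by
    have hwe : ⁅x, y⁆ = x * y * x * y := by rw [commutatorElement_def, hxi, hyi]
    have hwi : ⁅x, y⁆⁻¹ = y * x * y * x := by
      rw [hwe]; simp only [mul_inv_rev, hxi, hyi, mul_assoc]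
    have e : x * ⁅x, y⁆⁻¹ * x⁻¹ = ⁅x, y⁆ := by
      rw [hwi, hxi, hwe]; simp only [mul_assoc]; rw [x2, mul_one]
    rw [commutatorElement_def ⁅x, y⁆ x]
    calc ⁅x, y⁆ * x * ⁅x, y⁆⁻¹ * x⁻¹ = ⁅x, y⁆ * (x * ⁅x, y⁆⁻¹ * x⁻¹) := by group
      _ = ⁅x, y⁆ * ⁅x, y⁆ := by rw [e]
  have hwwW : ⁅x, y⁆ * ⁅x, y⁆ ∈ W x y' := by
    rw [← hww]
    exact h.comm_t_f_le p (commutator_mem_commutator hwO (mem_zpowers x))
  obtain ⟨l, hl⟩ := hodd
  have hwpow : ⁅x, y⁆ = (⁅x, y⁆ * ⁅x, y⁆) ^ (l + 1) := by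
    rw [← pow_two, ← pow_mul]
    have e : 2 * (l + 1) = orderOf ⁅x, y⁆ + 1 := by omega
    rw [e, pow_succ, pow_orderOf_eq_one, one_mul]
  have hwW : ⁅x, y⁆ ∈ W x y' := by
    rw [hwpow]
    exact pow_mem hwwW _
  have hWne : W x y' ≠ ⊥ := by
    intro e
    rw [e, mem_bot] at hwW
    exact hw hwW
  have hM : normalizer ((W x y' : Subgroup G) : Set G) ≠ ⊤ := by
    intro e
    apply hWne
    refine h.odd_normal_eq_bot (h.W_odd p.hf p.hz p.f2 p.z2 p.f1 p.z1 p.c) fun g a ha => ?_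
    have hg : g ∈ normalizer ((W x y' : Subgroup G) : Set G) := by rw [e]; exact mem_top g
    exact (mem_normalizer_iff.mp hg a).mp ha
  have hxM := h.C_t_norm p hxt
  have hyM := h.C_t_norm p hyt
  exact ⟨y', c, p, hye, hc, h.ih_elem hM (mem_Nn hx hxM) (mem_Nn hy hyM)⟩

/-- P7: each involution of `C₂` stabilizes the set of points fixed by an involution of `C₁`. -/
theorem Ctx.P7 {x y : G} (hx : x ∈ C₁) (hy : y ∈ C₂) (x2 : x * x = 1) (y2 : y * y = 1) (x1 : x ≠ 1)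
    (y1 : y ≠ 1) : y ∈ stabFix C₁ C₂ x := by
  by_cases hw : ⁅x, y⁆ = 1
  · refine Cg_le_stabFix h.sc x (mem_Cg.mpr ?_)
    exact ((commutatorElement_eq_one_iff_mul_comm).mp hw).symm
  obtain ⟨y', c, p, hye, hc, hwO⟩ := h.P7core hx hy x2 y2 x1 y1 hw
  have hfix : W x y' ∈ Fix C₁ C₂ x :=
    ⟨⟨x, y', p, rfl⟩, W_norm_of_comm rfl p.c⟩
  have hcS : c ∈ stabFix C₁ C₂ x := h.P6 hx x2 x1 hfix ((zpowers_le.mpr hwO) hc)
  rw [hye]
  exact mul_mem (mul_mem hcS (Cg_le_stabFix h.sc x (mem_Cg.mpr p.c.symm))) (inv_mem hcS)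

end

end Cfsg.Agent.Lib.ProdFusion
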