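import Mathlib
import Cfsg.Agent.Lib.ProdFusion.Points3

/-!
# The main step: in the context of the induction the two sets commute
-/

set_option autoImplicit false
set_option linter.style.haveILetI false
set_option linter.unusedVariables false
set_option linter.unusedSectionVars false

namespace Cfsg.Agent.Lib.ProdFusion

open Subgroup Cfsg
open scoped commutatorElement
open Cfsg.Agent.Lib.Components.PComponent
open Cfsg.Agent.Lib.Transfer.CoreSep
open Cfsg.Agent.Lib.Coprime.Coset

universe u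

variable {G : Type u} [Group G] [Finite G]

variable {C₁ C₂ : Set G}

/-- The involutions of a set (and the identity). -/
def Inv2 (C : Set G) : Set G := {x | x ∈ C ∧ x * x = 1}

theorem Inv2_conj {C : Set G} (hC : ∀ x ∈ C, ∀ g : G, g * x * g⁻¹ ∈ C) :
    ∀ x ∈ Inv2 C, ∀ g : G, g * x * g⁻¹ ∈ Inv2 C :=
  fun x hx g => ⟨hC x hx.1 g, conj_invol hx.2⟩

/-- The common kernel of the action on the points. -/
def Cinf (C₁ C₂ : Set G) : Subgroup G := ⨅ β : Pts C₁ C₂, normalizer (((β : Subgroup G) : Subgroup G) : Set G)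

theorem mem_Cinf {g : G} : g ∈ Cinf C₁ C₂ ↔ ∀ β ∈ Pts C₁ C₂, g ∈ normalizer ((β : Subgroup G) : Set G) := by
  simp only [Cinf, mem_iInf, Subtype.forall]

theorem Cinf_normal (hs : SC C₁ C₂) : (Cinf C₁ C₂).Normal := by
  refine ⟨fun a ha g => ?_⟩
  rw [mem_Cinf] at ha ⊢
  intro β hβ
  have h1 := ha _ (Pts_conj hs hβ g⁻¹)
  have h2 := conj_mem_normalizer_cj (g := g) h1
  rwa [cj_inv_cj] at h2

section

variable (h : Ctx C₁ C₂)
include h

/-- The commutator of two involutions fixes each point. -/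
theorem Ctx.comm_fix_points {w : G} (h1 : w ∈ closure (Inv2 C₁)) (h2 : w ∈ closure (Inv2 C₂)) :
    w ∈ Cinf C₁ C₂ := by
  rw [mem_Cinf]
  rintro β ⟨f, z, p, rfl⟩
  have hE₂ : closure (Inv2 C₂) ≤ stabFix C₁ C₂ f := by
    refine (closure_le _).mpr fun y hy => ?_
    by_cases y1 : y = 1
    · rw [y1]; exact one_mem _
    · exact h.P7 p.hf hy.1 p.f2 hy.2 p.f1 y1
  have hE₁ : closure (Inv2 C₁) ≤ stabFix C₂ C₁ z := by
    refine (closure_le _).mpr fun y hy => ?_
    by_cases y1 : y = 1
    · rw [y1]; exact one_mem _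
    · exact h.symm.P7 p.hz hy.1 p.z2 hy.2 p.z1 y1
  have hfix₁ : W f z ∈ Fix C₁ C₂ f := ⟨⟨f, z, p, rfl⟩, W_norm_of_comm rfl p.c⟩
  have hfix₂ : W f z ∈ Fix C₂ C₁ z := by
    refine ⟨⟨z, f, p.symm, W_comm p.c⟩, W_norm_of_comm p.c.symm rfl⟩
  have a1 := (hE₂ h2 _).mp hfix₁
  have a2 := (hE₁ h1 _).mp hfix₂
  have e := h.P2 p a1.1 a1.2 a2.2
  exact mem_normalizer_of_cj_eq e

/-- Two involutions of the two sets commute. -/
theorem Ctx.invol_comm {x y : G} (hx : x ∈ C₁) (hy : y ∈ C₂) (x2 : x * x = 1) (y2 : y * y = 1) :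
    x * y = y * x := by
  by_cases x1 : x = 1
  · simp [x1]
  by_cases y1 : y = 1
  · simp [y1]
  by_contra hcon
  have hw : ⁅x, y⁆ ≠ 1 := fun e => hcon (commutatorElement_eq_one_iff_mul_comm.mp e)
  obtain ⟨y', c, p, hye, hc, hwO⟩ := h.P7core hx hy x2 y2 x1 y1 hw
  have hN₁ := closure_normal_of_conj (Inv2_conj h.sc.conj₁)
  have hN₂ := closure_normal_of_conj (Inv2_conj h.sc.conj₂)
  have hx' : x ∈ closure (Inv2 C₁) := subset_closure ⟨hx, x2⟩
  have hy' : y ∈ closure (Inv2 C₂) := subset_closure ⟨hy, y2⟩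
  have hw1 : ⁅x, y⁆ ∈ closure (Inv2 C₁) := by
    have e : ⁅x, y⁆ = x * (y * x⁻¹ * y⁻¹) := by rw [commutatorElement_def]; group
    rw [e]
    exact mul_mem hx' (hN₁.conj_mem _ (inv_mem hx') y)
  have hw2 : ⁅x, y⁆ ∈ closure (Inv2 C₂) := by
    rw [commutatorElement_def]
    exact mul_mem (hN₂.conj_mem _ hy' x) (inv_mem hy')
  have hC := h.comm_fix_points hw1 hw2
  have hnorm := Cinf_normal (C₁ := C₁) (C₂ := C₂) h.sc
  set M := normalizer ((W x y' : Subgroup G) : Set G) with hM
  have hle : Cinf C₁ C₂ ≤ M := fun g hg => mem_Cinf.mp hg _ ⟨x, y', p, rfl⟩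
  have hJ : Cinf C₁ C₂ ⊓ oddOf M ≤ oddOf (Cinf C₁ C₂) := by
    refine le_oddOf inf_le_left (odd_of_le (oddOf_odd M) inf_le_right) fun g hg => ?_
    exact inf_mem_normalizer (le_normalizer hg) (oddOf_norm (le_normalizer (hle hg)))
  have hbot : oddOf (Cinf C₁ C₂) = ⊥ := by
    refine h.odd_normal_eq_bot (oddOf_odd _) fun g a ha => ?_
    exact oddOf_conj (by rw [normalizer_eq_top_iff.mpr hnorm]; exact mem_top g) ha
  have := hJ ⟨hC, hwO⟩
  rw [hbot, mem_bot] at this
  exact hw this

/-- Lifting commutation from the involutions to the elements of `C₂`. -/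
theorem Ctx.lift {S : Set G} (hS : S ⊆ C₁) (hSc : ∀ x ∈ S, ∀ g : G, g * x * g⁻¹ ∈ S)
    (hSi : ∀ s ∈ S, ∀ y ∈ C₂, y * y = 1 → s * y = y * s) {s b : G} (hs : s ∈ S) (hb : b ∈ C₂) :
    s * b = b * s := by
  classical
  have hN := closure_normal_of_conj hSc
  obtain ⟨k, hk⟩ := h.sc.two₂ b hb
  induction k generalizing s b with
  | zero =>
    have : b = 1 := by simpa using hk
    simp [this]
  | succ k ih =>
    have hb2 : b * b ∈ C₂ := by
      have := h.sc.pow₂ hb 2
      rwa [pow_two] at this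
    have hb2k : (b * b) ^ 2 ^ k = 1 := by
      rw [← pow_two, ← pow_mul, ← pow_succ']
      exact hk
    have hbb : ∀ s' ∈ S, s' * (b * b) = (b * b) * s' := fun s' hs' => ih hs' hb2 hb2k
    by_cases hX : closure S ⊔ zpowers b = ⊤
    · have hcen : ∀ g : G, g * (b * b) = (b * b) * g := by
        have hle : (⊤ : Subgroup G) ≤ Cg (b * b) := by
          rw [← hX]
          refine sup_le ((closure_le _).mpr fun s' hs' => mem_Cg.mpr (hbb s' hs')) ?_
          refine zpowers_le.mpr (mem_Cg.mpr ?_)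
          rw [mul_assoc]
        exact fun g => mem_Cg.mp (hle (mem_top g))
      have hb21 : b * b = 1 := by
        by_contra hb21
        obtain ⟨e, he, hoe⟩ := Cfsg.Agent.Lib.Signalizer.TwoCore.exists_involution_pow hb21 hb2k
        have hne : e ≠ 1 := by
          rintro rfl
          simp at hoe
        have he2 : e * e = 1 := by
          rw [← pow_two, ← hoe, pow_orderOf_eq_one]
        have heC : e ∈ C₂ := by
          obtain ⟨n, rfl⟩ := mem_zpowers_iff.mp he
          have hpow : ∀ (n : ℤ), (b * b) ^ n ∈ C₂ := by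
            intro n
            have h1 : (b * b) ^ n ∈ zpowers (b * b) := zpow_mem_zpowers _ _
            have h2 : zpowers (b * b) = (zpowers (b * b)).map (MonoidHom.id G) := by simp
            rw [mem_zpowers_iff] at h1
            obtain ⟨m, hm⟩ := (mem_powers_iff_mem_zpowers).mpr (zpow_mem_zpowers (b * b) n)
            rw [← hm]
            exact h.sc.pow₂ hb2 m
          exact hpow n
        obtain ⟨g, hg⟩ := h.nc₂ e heC he2 hne
        apply hg
        have heC' : e ∈ (centralizer (Set.univ : Set G)) := by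
          have hle : zpowers (b * b) ≤ centralizer (Set.univ : Set G) := by
            refine zpowers_le.mpr (mem_centralizer_iff.mpr fun g _ => hcen g)
          exact hle he
        exact mem_centralizer_iff.mp heC' g (Set.mem_univ g)
      exact hSi s hs b hb hb21
    · have hsX : s ∈ closure S ⊔ zpowers b := mem_sup_left (subset_closure hs)
      have hbX : b ∈ closure S ⊔ zpowers b := mem_sup_right (mem_zpowers b)
      have hw := h.ih_elem hX (mem_Nn (hS hs) hsX) (mem_Nn hb hbX)
      have hwN : ⁅s, b⁆ ∈ closure S := by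
        have e : ⁅s, b⁆ = s * (b * s⁻¹ * b⁻¹) := by rw [commutatorElement_def]; group
        rw [e]
        exact mul_mem (subset_closure hs) (hN.conj_mem _ (inv_mem (subset_closure hs)) b)
      have hJ : oddOf (closure S ⊔ zpowers b) ⊓ closure S ≤ oddOf (closure S) := by
        refine le_oddOf inf_le_right (odd_of_le (oddOf_odd _) inf_le_left) fun g hg => ?_
        exact inf_mem_normalizer (oddOf_norm (le_normalizer (mem_sup_left hg))) (le_normalizer hg)
      have hbot : oddOf (closure S) = ⊥ := by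
        refine h.odd_normal_eq_bot (oddOf_odd _) fun g a ha => ?_
        exact oddOf_conj (by rw [normalizer_eq_top_iff.mpr hN]; exact mem_top g) ha
      have := hJ ⟨hw, hwN⟩
      rw [hbot, mem_bot] at this
      exact commutatorElement_eq_one_iff_mul_comm.mp this

/-- The two sets commute. -/
theorem Ctx.comm_all {a b : G} (ha : a ∈ C₁) (hb : b ∈ C₂) : a * b = b * a := by
  -- involutions of `C₂` commute with `C₁`
  have h1 : ∀ y ∈ Inv2 C₂, ∀ a' ∈ C₁, y * a' = a' * y := by
    intro y hy a' ha'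
    refine h.symm.lift (S := Inv2 C₂) (fun x hx => hx.1) (Inv2_conj h.sc.conj₂) ?_ hy ha'
    intro s hs y' hy' y'2
    exact (h.invol_comm hy' hs.1 y'2 hs.2).symm
  exact h.lift (S := C₁) (fun x hx => hx) h.sc.conj₁
    (fun s hs y hy y2 => (h1 y ⟨hy, y2⟩ s hs).symm) ha hb

/-- The main step. -/
theorem Ctx.main : ⁅closure C₁, closure C₂⁆ = ⊥ := by
  rw [commutator_eq_bot_iff_le_centralizer]
  refine (closure_le _).mpr fun a ha => ?_
  rw [SetLike.mem_coe, mem_centralizer_iff]
  intro b hb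
  have hle : closure C₂ ≤ centralizer ({a} : Set G) :=
    (closure_le _).mpr fun b' hb' => mem_centralizer_iff.mpr fun g hg => by
      rw [Set.mem_singleton_iff] at hg
      rw [hg]
      exact h.comm_all ha hb'
  exact (mem_centralizer_iff.mp (hle hb) a rfl).symm

end

end Cfsg.Agent.Lib.ProdFusion
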