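import Mathlib
import Cfsg.Agent.Lib.ProdFusion.Main

/-!
# Passing to quotients and the induction: the commutator part of product fusion
-/

set_option autoImplicit false
set_option linter.style.haveILetI false
set_option linter.unusedVariables false
set_option linter.unusedSectionVars false

namespace Cfsg.Agent.Lib.ProdFusion

open Subgroup Cfsg
open scoped commutatorElement
open Cfsg.Agent.Lib.Components.PComponent
open Cfsg.Agent.Lib.Transfer.CoreSep
open Cfsg.Agent.Lib.Coprime.Coset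

universe u

variable {G : Type u} [Group G] [Finite G]

variable {C₁ C₂ : Set G}

/-- A `2`-subgroup of a quotient lifts to a `2`-subgroup, and each `2`-element mapping into it is conjugate by a
kernel element into the lift. -/
theorem exists_lift_two {Γ : Type*} [Group Γ] [Finite Γ] (π : G →* Γ) (hπ : Function.Surjective π) {Q : Subgroup Γ}
    (hQ : IsPGroup 2 Q) :
    ∃ R : Subgroup G, IsPGroup 2 R ∧
      ∀ x : G, π x ∈ Q → (∃ k : ℕ, x ^ 2 ^ k = 1) → ∃ c ∈ π.ker, c * x * c⁻¹ ∈ R := by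
  classical
  have : Fact (Nat.Prime 2) := ⟨Nat.prime_two⟩
  let L : Subgroup G := Q.comap π
  obtain ⟨R₀⟩ : Nonempty (Sylow 2 ↥L) := inferInstance
  let φ : ↥L →* ↥Q := (π.comp L.subtype).codRestrict Q (fun l => l.2)
  have hφ : Function.Surjective φ := by
    rintro ⟨q, hq⟩
    obtain ⟨g, rfl⟩ := hπ q
    exact ⟨⟨g, hq⟩, rfl⟩
  let S' : Sylow 2 ↥Q := R₀.mapSurjective hφ
  have hTop : IsPGroup 2 (⊤ : Subgroup ↥Q) := by
    intro g
    obtain ⟨n, hn⟩ := hQ g.1
    refine ⟨n, Subtype.ext ?_⟩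
    simpa using hn
  have htop : (⊤ : Subgroup ↥Q) = (S' : Subgroup ↥Q) := S'.is_maximal' hTop le_top
  refine ⟨(R₀ : Subgroup ↥L).map L.subtype, (R₀.isPGroup').map _, ?_⟩
  rintro x hx ⟨k, hk⟩
  let x' : ↥L := ⟨x, hx⟩
  have hk' : x' ^ 2 ^ k = 1 := Subtype.ext (by simpa [x'] using hk)
  obtain ⟨S₁, hS₁⟩ := (isPGroup_zpowers_of_two hk').exists_le_sylow
  obtain ⟨g, hg⟩ := MulAction.exists_smul_eq ↥L S₁ R₀
  have hgx : g * x' * g⁻¹ ∈ (R₀ : Subgroup ↥L) := by
    rw [← hg, Sylow.coe_subgroup_smul]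
    exact ⟨x', hS₁ (mem_zpowers x'), rfl⟩
  have hgS : φ g ∈ (S' : Subgroup ↥Q) := by rw [← htop]; exact mem_top _
  have hgS' : φ g ∈ (R₀ : Subgroup ↥L).map φ := hgS
  obtain ⟨r, hr, hrg⟩ := hgS'
  refine ⟨(r : G)⁻¹ * (g : G), ?_, ?_⟩
  · rw [MonoidHom.mem_ker, map_mul, map_inv, inv_mul_eq_one]
    exact congrArg Subtype.val hrg
  · refine ⟨r⁻¹ * (g * x' * g⁻¹) * r, mul_mem (mul_mem (inv_mem hr) hgx) hr, ?_⟩
    simp only [Subgroup.coe_subtype, Subgroup.coe_mul, Subgroup.coe_inv, x']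
    group

theorem SC.map_odd {Γ : Type*} [Group Γ] [Finite Γ] (h : SC C₁ C₂) (π : G →* Γ) (hπ : Function.Surjective π)
    (hK : Odd (Nat.card π.ker)) : SC (π '' C₁) (π '' C₂) := by
  have key : ∀ (C C' : Set G), (∀ x ∈ C, ∀ g : G, g * x * g⁻¹ ∈ C) → (∀ x ∈ C', ∀ g : G, g * x * g⁻¹ ∈ C') →
      (∀ x ∈ C, ∃ k : ℕ, x ^ 2 ^ k = 1) → (∀ x ∈ C', ∃ k : ℕ, x ^ 2 ^ k = 1) →
      ∀ (Q : Subgroup Γ), IsPGroup 2 Q → ∀ x ∈ C, ∀ y ∈ C', π x ∈ Q → π y ∈ Q →
      ∃ (R : Subgroup G) (x' y' : G), IsPGroup 2 R ∧ x' ∈ C ∧ y' ∈ C' ∧ x' ∈ R ∧ y' ∈ R ∧ π x' = π x ∧ π y' = π y := by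
    intro C C' hC hC' h2 h2' Q hQ x hx y hy hxQ hyQ
    obtain ⟨R, hR, hRc⟩ := exists_lift_two π hπ hQ
    obtain ⟨c, hc, hcx⟩ := hRc x hxQ (h2 x hx)
    obtain ⟨d, hd, hdy⟩ := hRc y hyQ (h2' y hy)
    refine ⟨R, c * x * c⁻¹, d * y * d⁻¹, hR, hC x hx c, hC' y hy d, hcx, hdy, ?_, ?_⟩
    · rw [map_mul, map_mul, map_inv, MonoidHom.mem_ker.mp hc]; simp
    · rw [map_mul, map_mul, map_inv, MonoidHom.mem_ker.mp hd]; simp
  refine ⟨?_, ?_, ⟨1, h.one₁, map_one π⟩, ⟨1, h.one₂, map_one π⟩, ?_, ?_, ?_, ?_, ?_, ?_⟩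
  · rintro _ ⟨x, hx, rfl⟩ g
    obtain ⟨g, rfl⟩ := hπ g
    exact ⟨g * x * g⁻¹, h.conj₁ x hx g, by simp⟩
  · rintro _ ⟨x, hx, rfl⟩ g
    obtain ⟨g, rfl⟩ := hπ g
    exact ⟨g * x * g⁻¹, h.conj₂ x hx g, by simp⟩
  · rintro _ ⟨x, hx, rfl⟩
    obtain ⟨k, hk⟩ := h.two₁ x hx
    exact ⟨k, by rw [← map_pow, hk, map_one]⟩
  · rintro _ ⟨x, hx, rfl⟩
    obtain ⟨k, hk⟩ := h.two₂ x hx
    exact ⟨k, by rw [← map_pow, hk, map_one]⟩
  · rintro Q hQ _ hxQ _ hyQ ⟨x, hx, rfl⟩ ⟨y, hy, rfl⟩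
    obtain ⟨R, x', y', hR, hx', hy', hxR, hyR, e1, e2⟩ :=
      key C₁ C₁ h.conj₁ h.conj₁ h.two₁ h.two₁ Q hQ x hx y hy hxQ hyQ
    exact ⟨x' * y', h.mul₁ R hR _ hxR _ hyR hx' hy', by rw [map_mul, e1, e2]⟩
  · rintro Q hQ _ hxQ _ hyQ ⟨x, hx, rfl⟩ ⟨y, hy, rfl⟩
    obtain ⟨R, x', y', hR, hx', hy', hxR, hyR, e1, e2⟩ :=
      key C₂ C₂ h.conj₂ h.conj₂ h.two₂ h.two₂ Q hQ x hx y hy hxQ hyQ
    exact ⟨x' * y', h.mul₂ R hR _ hxR _ hyR hx' hy', by rw [map_mul, e1, e2]⟩
  · rintro Q hQ _ hxQ _ hyQ ⟨x, hx, rfl⟩ ⟨y, hy, rfl⟩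
    obtain ⟨R, x', y', hR, hx', hy', hxR, hyR, e1, e2⟩ :=
      key C₁ C₂ h.conj₁ h.conj₂ h.two₁ h.two₂ Q hQ x hx y hy hxQ hyQ
    have := congrArg π (h.comm R hR _ hxR _ hyR hx' hy')
    rwa [map_mul, map_mul, e1, e2] at this
  · rintro _ ⟨x, hx, rfl⟩ ⟨y, hy, hxy⟩
    obtain ⟨k, hk⟩ := h.two₁ x hx
    have hQ : IsPGroup 2 (zpowers (π x)) :=
      isPGroup_zpowers_of_two (k := k) (by rw [← map_pow, hk, map_one])
    obtain ⟨R, x', y', hR, hx', hy', hxR, hyR, e1, e2⟩ :=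
      key C₁ C₂ h.conj₁ h.conj₂ h.two₁ h.two₂ _ hQ x hx y hy (mem_zpowers _) (hxy ▸ mem_zpowers _)
    have hinf : R ⊓ π.ker = ⊥ := by
      refine (Subgroup.disjoint_of_coprime_natCard ?_).eq_bot
      obtain ⟨n, hn⟩ := IsPGroup.iff_card.mp hR
      rw [hn]
      exact Nat.Coprime.pow_left _ (Nat.coprime_two_left.mpr hK)
    have hu : x'⁻¹ * y' ∈ R ⊓ π.ker := by
      refine Subgroup.mem_inf.mpr ⟨mul_mem (inv_mem hxR) hyR, ?_⟩
      rw [MonoidHom.mem_ker, map_mul, map_inv, e1, e2, hxy, inv_mul_cancel]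
    rw [hinf, mem_bot, inv_mul_eq_one] at hu
    have hx'1 : x' = 1 := h.disj x' hx' (hu ▸ hy')
    rw [← e1, hx'1, map_one]

theorem SC.map_ker₁ {Γ : Type*} [Group Γ] [Finite Γ] (h : SC C₁ C₂) (π : G →* Γ) (hπ : Function.Surjective π) {e : G}
    (he : e ∈ C₁) (e2 : e * e = 1) (hker : π.ker = zpowers e) : SC (π '' C₁) (π '' C₂) := by
  have hkerP : IsPGroup 2 π.ker := by
    rw [hker]
    exact isPGroup_zpowers_of_mul_self e2
  have hR : ∀ Q : Subgroup Γ, IsPGroup 2 Q → IsPGroup 2 (Q.comap π) :=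
    fun Q hQ => hQ.comap_of_ker_isPGroup π hkerP
  refine ⟨?_, ?_, ⟨1, h.one₁, map_one π⟩, ⟨1, h.one₂, map_one π⟩, ?_, ?_, ?_, ?_, ?_, ?_⟩
  · rintro _ ⟨x, hx, rfl⟩ g
    obtain ⟨g, rfl⟩ := hπ g
    exact ⟨g * x * g⁻¹, h.conj₁ x hx g, by simp⟩
  · rintro _ ⟨x, hx, rfl⟩ g
    obtain ⟨g, rfl⟩ := hπ g
    exact ⟨g * x * g⁻¹, h.conj₂ x hx g, by simp⟩
  · rintro _ ⟨x, hx, rfl⟩
    obtain ⟨k, hk⟩ := h.two₁ x hx
    exact ⟨k, by rw [← map_pow, hk, map_one]⟩
  · rintro _ ⟨x, hx, rfl⟩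
    obtain ⟨k, hk⟩ := h.two₂ x hx
    exact ⟨k, by rw [← map_pow, hk, map_one]⟩
  · rintro Q hQ _ hxQ _ hyQ ⟨x, hx, rfl⟩ ⟨y, hy, rfl⟩
    exact ⟨x * y, h.mul₁ _ (hR Q hQ) _ hxQ _ hyQ hx hy, map_mul _ _ _⟩
  · rintro Q hQ _ hxQ _ hyQ ⟨x, hx, rfl⟩ ⟨y, hy, rfl⟩
    exact ⟨x * y, h.mul₂ _ (hR Q hQ) _ hxQ _ hyQ hx hy, map_mul _ _ _⟩
  · rintro Q hQ _ hxQ _ hyQ ⟨x, hx, rfl⟩ ⟨y, hy, rfl⟩
    have := congrArg π (h.comm _ (hR Q hQ) _ hxQ _ hyQ hx hy)
    rwa [map_mul, map_mul] at this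
  · rintro _ ⟨x, hx, rfl⟩ ⟨y, hy, hxy⟩
    obtain ⟨k, hk⟩ := h.two₁ x hx
    have hQ : IsPGroup 2 (zpowers (π x)) :=
      isPGroup_zpowers_of_two (k := k) (by rw [← map_pow, hk, map_one])
    have hu : x⁻¹ * y ∈ zpowers e := by
      rw [← hker, MonoidHom.mem_ker, map_mul, map_inv, hxy, inv_mul_cancel]
    have hxR : x ∈ (zpowers (π x)).comap π := mem_zpowers (π x)
    have heR : e ∈ (zpowers (π x)).comap π := by
      have : e ∈ π.ker := by rw [hker]; exact mem_zpowers e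
      rw [mem_comap, MonoidHom.mem_ker.mp this]
      exact one_mem _
    rcases mem_zpowers_of_mul_self e2 hu with hu' | hu'
    · rw [inv_mul_eq_one] at hu'
      rw [h.disj x hx (hu' ▸ hy), map_one]
    · have hye : y = x * e := by rw [← hu']; group
      have hyC : y ∈ C₁ := by
        rw [hye]
        exact h.mul₁ _ (hR _ hQ) _ hxR _ heR hx he
      rw [← hxy, h.disj y hyC hy, map_one]

/-- Two commuting elements modulo a central-involution kernel commute. -/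
theorem SC.comm_of_map_comm {Γ : Type*} [Group Γ] [Finite Γ] (h : SC C₁ C₂) (π : G →* Γ)
    (hker : IsPGroup 2 π.ker) {x y : G} (hx : x ∈ C₁) (hy : y ∈ C₂) (hc : π x * π y = π y * π x) : x * y = y * x := by
  obtain ⟨k, hk⟩ := h.two₁ x hx
  obtain ⟨l, hl⟩ := h.two₂ y hy
  obtain ⟨Q, hxQ, hyQ⟩ := exists_pgroup_of_comm (x := π x) (y := π y) (k := k) (l := l)
    (by rw [← map_pow, hk, map_one]) (by rw [← map_pow, hl, map_one]) hc
  exact h.comm _ ((sylow_isP Q).comap_of_ker_isPGroup π hker) _ hxQ _ hyQ hx hy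

/-- If an odd-by-central-involution normal subgroup has no odd normal part, it is the central involution part. -/
theorem le_zpowers_of_odd_quotient (hcore : oddCore G = ⊥) {e : G} (e2 : e * e = 1) (hcen : ∀ g : G, g * e = e * g)
    [hKn : (zpowers e).Normal] {A : Subgroup G} (hAn : A.Normal) (heA : e ∈ A)
    (hodd : Odd (Nat.card (A.map (QuotientGroup.mk' (zpowers e))))) : A ≤ zpowers e := by
  classical
  have : Fact (Nat.Prime 2) := ⟨Nat.prime_two⟩
  have hKA : zpowers e ≤ A := zpowers_le.mpr heA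
  -- work inside `A`
  let N : Subgroup ↥A := (zpowers e).subgroupOf A
  have hNn : N.Normal := inferInstance
  have hPN : IsPGroup 2 N := by
    have h1 : IsPGroup 2 (zpowers e) := isPGroup_zpowers_of_mul_self e2
    intro g
    obtain ⟨n, hn⟩ := h1 ⟨(g : ↥A), g.2⟩
    refine ⟨n, Subtype.ext (Subtype.ext ?_)⟩
    simpa using congrArg Subtype.val hn
  have hidx : Odd N.index := by
    have e1 : N.index = Nat.card (A.map (QuotientGroup.mk' (zpowers e))) := by
      have := Subgroup.index_ker ((QuotientGroup.mk' (zpowers e)).comp A.subtype)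
      have hk : ((QuotientGroup.mk' (zpowers e)).comp A.subtype).ker = N := by
        ext a
        simp [N, MonoidHom.mem_ker, Subgroup.mem_subgroupOf]
      rw [hk] at this
      rw [this, MonoidHom.range_comp]
      simp
    rw [e1]
    exact hodd
  have hcop : Nat.Coprime (Nat.card N) N.index := by
    obtain ⟨n, hn⟩ := IsPGroup.iff_card.mp hPN
    rw [hn]
    exact Nat.Coprime.pow_left _ (Nat.coprime_two_left.mpr hidx)
  obtain ⟨H, hH⟩ := Subgroup.exists_right_complement'_of_coprime hcop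
  have hHodd : Odd (Nat.card H) := by
    rw [← hH.symm.index_eq_card]
    exact hidx
  -- `H` is normal in `A` since `N` is central
  have hdec : ∀ a ∈ A, ∃ n ∈ zpowers e, ∃ t ∈ H, a = n * (t : G) := by
    intro a ha
    obtain ⟨⟨n, t⟩, hnt, -⟩ := (isComplement'_def.mp hH).existsUnique ⟨a, ha⟩
    refine ⟨((n : ↥A) : G), n.2, t, t.2, ?_⟩
    have := congrArg Subtype.val hnt
    simpa using this.symm
  have hcenN : ∀ n ∈ zpowers e, ∀ g : G, n * g = g * n := by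
    intro n hn g
    rcases mem_zpowers_of_mul_self e2 hn with rfl | rfl
    · simp
    · exact (hcen g).symm
  have hHn : A ≤ normalizer ((H.map A.subtype : Subgroup G) : Set G) := by
    have key : ∀ a ∈ A, ∀ l ∈ H.map A.subtype, a * l * a⁻¹ ∈ H.map A.subtype := by
      intro a ha l hl
      obtain ⟨n, hn, t, ht, rfl⟩ := hdec a ha
      obtain ⟨l', hl', rfl⟩ := hl
      have e1 : n * (t : G) * (A.subtype l') * (n * (t : G))⁻¹ = ((t : ↥A) * l' * (t : ↥A)⁻¹ : ↥A) := by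
        rw [hcenN n hn (t : G), mul_inv_rev]
        simp only [Subgroup.coe_subtype, Subgroup.coe_mul, Subgroup.coe_inv]
        have e4 : n * (l' : G) * n⁻¹ = (l' : G) := by rw [hcenN n hn]; group
        calc (t : G) * n * (l' : G) * (n⁻¹ * (t : G)⁻¹)
            = (t : G) * (n * (l' : G) * n⁻¹) * (t : G)⁻¹ := by group
          _ = (t : G) * (l' : G) * (t : G)⁻¹ := by rw [e4]
      rw [e1]
      exact ⟨_, mul_mem (mul_mem ht hl') (inv_mem ht), rfl⟩
    intro a ha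
    exact mem_normalizer_of_conj' (fun l hl => by simpa using key _ (A.inv_mem ha) l hl) (fun l hl => key _ ha l hl)
  have hHle : H.map A.subtype ≤ oddOf A := by
    refine le_oddOf (map_subtype_le _) ?_ hHn
    rwa [Nat.card_congr (Subgroup.equivMapOfInjective H A.subtype A.subtype_injective).toEquiv.symm]
  have hbot : oddOf A = ⊥ := by
    rw [eq_bot_iff]
    have hN : (oddOf A).Normal := ⟨fun x hx g => oddOf_conj (by rw [normalizer_eq_top_iff.mpr hAn]; exact mem_top g) hx⟩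
    have := le_pPrimeCore' (p := 2) hN (Nat.coprime_two_right.mpr (oddOf_odd A))
    exact this.trans hcore.le
  have hHbot : ∀ t ∈ H, t = 1 := by
    intro t ht
    have : (t : G) ∈ oddOf A := hHle ⟨t, ht, rfl⟩
    rw [hbot, mem_bot] at this
    exact Subtype.ext this
  intro a ha
  obtain ⟨n, hn, t, ht, rfl⟩ := hdec a ha
  rw [hHbot t ht]
  simpa using hn

/-- Commuting generators give commuting closures. -/
theorem comm_closure {Γ : Type*} [Group Γ] {A B : Set Γ} (hc : ∀ a ∈ A, ∀ b ∈ B, a * b = b * a) :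
    ⁅closure A, closure B⁆ = ⊥ := by
  rw [commutator_eq_bot_iff_le_centralizer]
  refine (closure_le _).mpr fun a ha => ?_
  rw [SetLike.mem_coe, mem_centralizer_iff]
  intro b hb
  have hle : closure B ≤ centralizer ({a} : Set Γ) :=
    (closure_le _).mpr fun b' hb' => mem_centralizer_iff.mpr fun g hg => by
      rw [Set.mem_singleton_iff] at hg
      rw [hg]
      exact hc a ha b' hb'
  exact (mem_centralizer_iff.mp (hle hb) a rfl).symm

/-- The statement proved by induction. -/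
abbrev PFStmt (m : ℕ) : Prop :=
  ∀ (Γ : Type u) [Group Γ] [Finite Γ] (C₁ C₂ : Set Γ), Nat.card Γ = m → SC C₁ C₂ → ⁅closure C₁, closure C₂⁆ ≤ oddCore Γ

/-- The step for a central involution. -/
theorem central_step (ih : ∀ m < Nat.card G, PFStmt.{u} m) (h : SC C₁ C₂) (hcore : oddCore G = ⊥) {e : G}
    (he : e ∈ C₁) (e2 : e * e = 1) (e1 : e ≠ 1) (hcen : ∀ g : G, g * e = e * g) {x y : G} (hx : x ∈ C₁)
    (hy : y ∈ C₂) : x * y = y * x := by
  have hcenN : ∀ n ∈ zpowers e, ∀ g : G, g * n = n * g := by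
    intro n hn g
    rcases mem_zpowers_of_mul_self e2 hn with rfl | rfl
    · simp
    · exact hcen g
  haveI hKn : (zpowers e).Normal := ⟨fun n hn g => by
    rw [hcenN n hn g, mul_inv_cancel_right]
    exact hn⟩
  let π := QuotientGroup.mk' (zpowers e)
  have hsurj : Function.Surjective π := QuotientGroup.mk'_surjective _
  have hker : π.ker = zpowers e := QuotientGroup.ker_mk' _
  have hS := h.map_ker₁ π hsurj he e2 hker
  have hlt : Nat.card (G ⧸ zpowers e) < Nat.card G := by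
    have h1 := Subgroup.card_eq_card_quotient_mul_card_subgroup (zpowers e)
    have h2 : Nat.card (zpowers e) = 2 := by
      rw [Nat.card_zpowers]; exact invol_orderOf e2 e1
    rw [h2] at h1
    have h3 : 0 < Nat.card (G ⧸ zpowers e) := Nat.card_pos
    omega
  have hih := ih _ hlt (G ⧸ zpowers e) _ _ rfl hS
  let A : Subgroup G := (oddCore (G ⧸ zpowers e)).comap π
  have hAn : A.Normal := Subgroup.Normal.comap inferInstance _
  have heA : e ∈ A := by
    have : e ∈ π.ker := by rw [hker]; exact mem_zpowers e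
    rw [mem_comap, MonoidHom.mem_ker.mp this]
    exact one_mem _
  have hodd : Odd (Nat.card (A.map (QuotientGroup.mk' (zpowers e)))) := by
    have e3 : A.map (QuotientGroup.mk' (zpowers e)) = oddCore (G ⧸ zpowers e) :=
      Subgroup.map_comap_eq_self_of_surjective hsurj _
    rw [e3]
    exact Nat.coprime_two_right.mp (Cfsg.Agent.Lib.Components.Transport.coprime_card_pPrimeCore 2)
  have hA := le_zpowers_of_odd_quotient hcore e2 hcen hAn heA hodd
  refine h.comm_of_map_comm π (by rw [hker]; exact isPGroup_zpowers_of_mul_self e2) hx hy ?_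
  have hc : ⁅π x, π y⁆ ∈ oddCore (G ⧸ zpowers e) :=
    hih (commutator_mem_commutator (subset_closure ⟨x, hx, rfl⟩) (subset_closure ⟨y, hy, rfl⟩))
  have hxy : ⁅x, y⁆ ∈ A := by
    rw [mem_comap, map_commutatorElement]
    exact hc
  have := hA hxy
  rw [← hker, MonoidHom.mem_ker, map_commutatorElement] at this
  exact commutatorElement_eq_one_iff_mul_comm.mp this

/-- The commutator part of product fusion, by induction. -/
theorem prod_fusion_aux (n : ℕ) : PFStmt.{u} n := by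
  induction n using Nat.strong_induction_on with
  | _ n ih =>
    intro G _ _ C₁ C₂ hn h
    subst hn
    by_cases hcore : oddCore G = ⊥
    · by_cases hc₁ : ∃ e ∈ C₁, e * e = 1 ∧ e ≠ 1 ∧ ∀ g : G, g * e = e * g
      · obtain ⟨e, he, e2, e1, hcen⟩ := hc₁
        rw [comm_closure fun a ha b hb => central_step ih h hcore he e2 e1 hcen ha hb]
        exact bot_le
      by_cases hc₂ : ∃ e ∈ C₂, e * e = 1 ∧ e ≠ 1 ∧ ∀ g : G, g * e = e * g
      · obtain ⟨e, he, e2, e1, hcen⟩ := hc₂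
        rw [comm_closure fun a ha b hb => (central_step ih h.symm hcore he e2 e1 hcen hb ha).symm]
        exact bot_le
      have hctx : Ctx C₁ C₂ := by
        refine ⟨h, hcore, ?_, ?_, ?_⟩
        · intro e he e2 e1
          by_contra hcon
          push Not at hcon
          exact hc₁ ⟨e, he, e2, e1, hcon⟩
        · intro e he e2 e1
          by_contra hcon
          push Not at hcon
          exact hc₂ ⟨e, he, e2, e1, hcon⟩
        · intro X hX
          have hlt : Nat.card X < Nat.card G := by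
            refine lt_of_le_of_ne (Subgroup.card_le_card_group X) ?_
            intro e
            exact hX ((Subgroup.card_eq_iff_eq_top X).mp e)
          exact ih _ hlt ↥X _ _ rfl (h.restrict X)
      rw [hctx.main]
      exact bot_le
    · let π := QuotientGroup.mk' (oddCore G)
      have hsurj : Function.Surjective π := QuotientGroup.mk'_surjective _
      have hker : π.ker = oddCore G := QuotientGroup.ker_mk' _
      have hodd : Odd (Nat.card π.ker) := by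
        rw [hker]
        exact Nat.coprime_two_right.mp (Cfsg.Agent.Lib.Components.Transport.coprime_card_pPrimeCore 2)
      have hS := h.map_odd π hsurj hodd
      have hlt : Nat.card (G ⧸ oddCore G) < Nat.card G := by
        have h1 := Subgroup.card_eq_card_quotient_mul_card_subgroup (oddCore G)
        have h2 : 1 < Nat.card (oddCore G) := by
          rw [Subgroup.one_lt_card_iff_ne_bot]
          exact hcore
        have h3 : 0 < Nat.card (G ⧸ oddCore G) := Nat.card_pos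
        nlinarith
      have hih := ih _ hlt (G ⧸ oddCore G) _ _ rfl hS
      have hbot : oddCore (G ⧸ oddCore G) = ⊥ := pPrimeCore_quotient_eq_bot 2
      rw [hbot] at hih
      refine commutator_le.mpr fun x hx y hy => ?_
      rw [← hker, MonoidHom.mem_ker, map_commutatorElement]
      have h1 : π x ∈ closure (π '' C₁) := by
        rw [← MonoidHom.map_closure]
        exact mem_map_of_mem _ hx
      have h2 : π y ∈ closure (π '' C₂) := by
        rw [← MonoidHom.map_closure]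
        exact mem_map_of_mem _ hy
      have := hih (commutator_mem_commutator h1 h2)
      simpa using this

/-- The commutator part of product fusion for the sets. -/
theorem prod_fusion (h : SC C₁ C₂) : ⁅closure C₁, closure C₂⁆ ≤ oddCore G :=
  prod_fusion_aux _ G C₁ C₂ rfl h

/-- Commuting disjoint strongly closed subgroups give such a pair of sets. -/
theorem SC.of_stronglyClosed (P : Sylow 2 G) {S₁ S₂ : Subgroup G} (hcomm : ∀ a ∈ S₁, ∀ b ∈ S₂, a * b = b * a)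
    (hdisj : S₁ ⊓ S₂ = ⊥) (hsc₁ : Cfsg.IsStronglyClosed S₁ (P : Subgroup G))
    (hsc₂ : Cfsg.IsStronglyClosed S₂ (P : Subgroup G)) :
    SC (Group.conjugatesOfSet (S₁ : Set G)) (Group.conjugatesOfSet (S₂ : Set G)) := by
  have : Fact (Nat.Prime 2) := ⟨Nat.prime_two⟩
  have hconj : ∀ (S : Subgroup G) (x : G), x ∈ Group.conjugatesOfSet (S : Set G) → ∀ g : G,
      g * x * g⁻¹ ∈ Group.conjugatesOfSet (S : Set G) := by
    intro S x hx g
    rw [Group.mem_conjugatesOfSet_iff] at hx ⊢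
    obtain ⟨a, ha, hax⟩ := hx
    exact ⟨a, ha, hax.trans (isConj_iff.mpr ⟨g, rfl⟩)⟩
  have hmem : ∀ (S : Subgroup G), Cfsg.IsStronglyClosed S (P : Subgroup G) → ∀ (x g : G),
      x ∈ Group.conjugatesOfSet (S : Set G) → g * x * g⁻¹ ∈ (P : Subgroup G) → g * x * g⁻¹ ∈ S := by
    intro S hS x g hx hgx
    rw [Group.mem_conjugatesOfSet_iff] at hx
    obtain ⟨a, ha, hax⟩ := hx
    obtain ⟨c, rfl⟩ := isConj_iff.mp hax
    have e : g * (c * a * c⁻¹) * g⁻¹ = (g * c) * a * (g * c)⁻¹ := by group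
    rw [e] at hgx ⊢
    exact hS.2 a ha _ hgx
  have hin : ∀ (S : Subgroup G) (x : G), x ∈ S → x ∈ Group.conjugatesOfSet (S : Set G) := by
    intro S x hx
    rw [Group.mem_conjugatesOfSet_iff]
    exact ⟨x, hx, IsConj.refl x⟩
  have hsyl : ∀ (Q : Subgroup G), IsPGroup 2 Q → ∃ g : G, ∀ x ∈ Q, g * x * g⁻¹ ∈ (P : Subgroup G) := by
    intro Q hQ
    obtain ⟨R, hR⟩ := hQ.exists_le_sylow
    obtain ⟨g, hg⟩ := MulAction.exists_smul_eq G R P
    refine ⟨g, fun x hx => ?_⟩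
    rw [← hg, Sylow.coe_subgroup_smul]
    exact ⟨x, hR hx, rfl⟩
  have htwo : ∀ (S : Subgroup G), Cfsg.IsStronglyClosed S (P : Subgroup G) → ∀ x ∈ Group.conjugatesOfSet (S : Set G),
      ∃ k : ℕ, x ^ 2 ^ k = 1 := by
    intro S hS x hx
    rw [Group.mem_conjugatesOfSet_iff] at hx
    obtain ⟨a, ha, hax⟩ := hx
    obtain ⟨c, rfl⟩ := isConj_iff.mp hax
    obtain ⟨k, hk⟩ := (sylow_isP P) ⟨a, hS.1 ha⟩
    refine ⟨k, ?_⟩
    have hk' : a ^ 2 ^ k = 1 := by simpa using congrArg Subtype.val hk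
    rw [conj_pow, hk']
    group
  have hmul : ∀ (S : Subgroup G), Cfsg.IsStronglyClosed S (P : Subgroup G) → ∀ Q : Subgroup G, IsPGroup 2 Q →
      ∀ x ∈ Q, ∀ y ∈ Q, x ∈ Group.conjugatesOfSet (S : Set G) → y ∈ Group.conjugatesOfSet (S : Set G) →
      x * y ∈ Group.conjugatesOfSet (S : Set G) := by
    intro S hS Q hQ x hxQ y hyQ hx hy
    obtain ⟨g, hg⟩ := hsyl Q hQ
    have h1 := hmem S hS x g hx (hg x hxQ)
    have h2 := hmem S hS y g hy (hg y hyQ)
    have h3 := hconj S _ (hin S _ (mul_mem h1 h2)) g⁻¹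
    have e : g⁻¹ * (g * x * g⁻¹ * (g * y * g⁻¹)) * g⁻¹⁻¹ = x * y := by group
    rwa [e] at h3
  refine ⟨hconj S₁, hconj S₂, hin _ _ (one_mem _), hin _ _ (one_mem _), htwo S₁ hsc₁, htwo S₂ hsc₂,
    hmul S₁ hsc₁, hmul S₂ hsc₂, ?_, ?_⟩
  · intro Q hQ x hxQ y hyQ hx hy
    obtain ⟨g, hg⟩ := hsyl Q hQ
    have h1 := hmem S₁ hsc₁ x g hx (hg x hxQ)
    have h2 := hmem S₂ hsc₂ y g hy (hg y hyQ)
    have h3 := hcomm _ h1 _ h2
    have e1 : x * y = g⁻¹ * (g * x * g⁻¹ * (g * y * g⁻¹)) * g := by group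
    have e2 : y * x = g⁻¹ * (g * y * g⁻¹ * (g * x * g⁻¹)) * g := by group
    rw [e1, e2, h3]
  · intro x h1 h2
    obtain ⟨k, hk⟩ := htwo S₁ hsc₁ x h1
    obtain ⟨g, hg⟩ := hsyl _ (isPGroup_zpowers_of_two hk)
    have h3 := hmem S₁ hsc₁ x g h1 (hg x (mem_zpowers x))
    have h4 := hmem S₂ hsc₂ x g h2 (hg x (mem_zpowers x))
    have h5 : g * x * g⁻¹ ∈ S₁ ⊓ S₂ := Subgroup.mem_inf.mpr ⟨h3, h4⟩
    rw [hdisj, mem_bot] at h5
    have e : x = g⁻¹ * (g * x * g⁻¹) * g := by group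
    rw [e, h5]
    group

/-- The commutator part of product fusion. -/
theorem product_fusion_commutator (P : Sylow 2 G) {S₁ S₂ : Subgroup G} (hcomm : ∀ a ∈ S₁, ∀ b ∈ S₂, a * b = b * a)
    (hdisj : S₁ ⊓ S₂ = ⊥) (hsc₁ : Cfsg.IsStronglyClosed S₁ (P : Subgroup G))
    (hsc₂ : Cfsg.IsStronglyClosed S₂ (P : Subgroup G)) :
    ⁅normalClosure (S₁ : Set G), normalClosure (S₂ : Set G)⁆ ≤ oddCore G :=
  prod_fusion (SC.of_stronglyClosed P hcomm hdisj hsc₁ hsc₂)

end Cfsg.Agent.Lib.ProdFusion
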