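import Mathlib
import Cfsg.Agent.Lib.ProdFusion.Driver
import Cfsg.Agent.Lib.Basic.SylowUtil

/-!
# Central factors of a Sylow subgroup split off by transfer
-/

set_option autoImplicit false
set_option linter.style.haveILetI false
set_option linter.unusedVariables false
set_option linter.unusedSectionVars false

namespace Cfsg.Agent.Lib.ProdFusion

open Subgroup Cfsg
open scoped commutatorElement
open Cfsg.Agent.Lib.Components.PComponent
open Cfsg.Agent.Lib.Transfer.CoreSep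

universe u

section Transfer

variable {Γ A : Type*} [Group Γ] [CommGroup A] {H : Subgroup Γ} [H.FiniteIndex]

/-- The transfer of a fusion stable homomorphism. -/
theorem transfer_stable' (ϕ : H →* A)
    (key : ∀ (x : H) (g : Γ) (h : g⁻¹ * x * g ∈ H), ϕ ⟨g⁻¹ * x * g, h⟩ = ϕ x) (x : H) :
    ϕ.transfer (x : Γ) = (ϕ x) ^ H.index := by
  classical
  let := H.fintypeQuotientOfFiniteIndex
  rw [MonoidHom.transfer_eq_prod_quotient_orbitRel_zpowers_quot]
  have h1 : ∀ q : Quotient (MulAction.orbitRel (Subgroup.zpowers (x : Γ)) (Γ ⧸ H)),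
      ϕ ⟨q.out.out⁻¹ * (x : Γ) ^ Function.minimalPeriod ((x : Γ) • ·) q.out * q.out.out,
        QuotientGroup.out_conj_pow_minimalPeriod_mem H (x : Γ) q.out⟩ =
      (ϕ x) ^ Function.minimalPeriod ((x : Γ) • ·) q.out := by
    intro q
    rw [← map_pow]
    have e : ((x ^ Function.minimalPeriod ((x : Γ) • ·) q.out : H) : Γ) =
        (x : Γ) ^ Function.minimalPeriod ((x : Γ) • ·) q.out := by simp
    have h2 := key (x ^ Function.minimalPeriod ((x : Γ) • ·) q.out) q.out.out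
      (by rw [e]; exact QuotientGroup.out_conj_pow_minimalPeriod_mem H (x : Γ) q.out)
    rw [← h2]
    congr 1
  rw [Finset.prod_congr rfl fun q _ => h1 q, Finset.prod_pow_eq_pow_sum,
    Subgroup.index_eq_sum_minimalPeriod H (x : Γ)]

end Transfer

/-- A central direct factor of a subgroup of odd index, complementing a subgroup strongly closed in it and
normally generating the whole group, is trivial. -/
theorem central_factor_trivial {Γ : Type*} [Group Γ] [Finite Γ] {H T D : Subgroup Γ}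
    (hodd : ¬ 2 ∣ H.index) (hDH : D ≤ H) (hsup : T ⊔ D = H) (hdisj : T ⊓ D = ⊥)
    (hcen : ∀ d ∈ D, ∀ g : Γ, g * d = d * g) (hP : IsPGroup 2 D)
    (hsc : ∀ t ∈ T, ∀ g : Γ, g * t * g⁻¹ ∈ H → g * t * g⁻¹ ∈ T)
    (hgen : ∀ K : Subgroup Γ, K.Normal → T ≤ K → K = ⊤) : D = ⊥ := by
  classical
  have hTH : T ≤ H := hsup ▸ le_sup_left
  letI : CommGroup ↥D :=
    { (inferInstance : Group ↥D) with
      mul_comm := fun a b => Subtype.ext (hcen a a.2 b).symm }
  have hdec : ∀ h : ↥H, ∃ d : ↥D, (h : Γ) * (d : Γ)⁻¹ ∈ T := by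
    intro h
    have hh : (h : Γ) ∈ T ⊔ D := hsup ▸ h.2
    obtain ⟨t, ht, d, hd, e⟩ := mem_sup_comm (fun a _ b hb => hcen b hb a) hh
    refine ⟨⟨d, hd⟩, ?_⟩
    rw [e]
    simpa using ht
  choose f hf using hdec
  have huniq : ∀ (h : ↥H) (d : ↥D), (h : Γ) * (d : Γ)⁻¹ ∈ T → f h = d := by
    intro h d hd
    have h1 : ((d : Γ) * (f h : Γ)⁻¹) ∈ T := by
      have := mul_mem (inv_mem hd) (hf h)
      have e : ((h : Γ) * (d : Γ)⁻¹)⁻¹ * ((h : Γ) * (f h : Γ)⁻¹) = (d : Γ) * (f h : Γ)⁻¹ := by group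
      rwa [e] at this
    have h2 : ((d : Γ) * (f h : Γ)⁻¹) ∈ D := mul_mem d.2 (inv_mem (f h).2)
    have h3 : (d : Γ) * (f h : Γ)⁻¹ ∈ T ⊓ D := Subgroup.mem_inf.mpr ⟨h1, h2⟩
    rw [hdisj, mem_bot, mul_inv_eq_one] at h3
    exact (Subtype.ext h3).symm
  let μ : ↥H →* ↥D := MonoidHom.mk' f (by
    intro a b
    refine huniq (a * b) (f a * f b) ?_
    have := mul_mem (hf a) (hf b)
    have e : (a : Γ) * (f a : Γ)⁻¹ * ((b : Γ) * (f b : Γ)⁻¹) =
        (((a * b : ↥H) : Γ)) * (((f a * f b : ↥D) : ↥D) : Γ)⁻¹ := by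
      have hc := hcen _ (inv_mem (f a).2) (b : Γ)
      simp only [Subgroup.coe_mul, mul_inv_rev]
      calc (a : Γ) * (f a : Γ)⁻¹ * ((b : Γ) * (f b : Γ)⁻¹) = (a : Γ) * ((f a : Γ)⁻¹ * (b : Γ)) * (f b : Γ)⁻¹ := by group
        _ = (a : Γ) * ((b : Γ) * (f a : Γ)⁻¹) * (f b : Γ)⁻¹ := by rw [← hc]
        _ = (a : Γ) * (b : Γ) * ((f a : Γ)⁻¹ * (f b : Γ)⁻¹) := by group
        _ = (a : Γ) * (b : Γ) * ((f b : Γ)⁻¹ * (f a : Γ)⁻¹) := by rw [hcen _ (inv_mem (f a).2) (f b : Γ)⁻¹]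
    rwa [e] at this)
  have hμ : ∀ h, μ h = f h := fun h => rfl
  have key : ∀ (x : ↥H) (g : Γ) (h : g⁻¹ * x * g ∈ H), μ ⟨g⁻¹ * x * g, h⟩ = μ x := by
    intro x g h
    refine huniq _ _ ?_
    have hx := hf x
    have e : g⁻¹ * (x : Γ) * g * ((μ x : ↥D) : Γ)⁻¹ = g⁻¹ * ((x : Γ) * (f x : Γ)⁻¹) * g⁻¹⁻¹ := by
      have hc := hcen _ (inv_mem (f x).2) g
      rw [hμ]
      calc g⁻¹ * (x : Γ) * g * (f x : Γ)⁻¹ = g⁻¹ * (x : Γ) * (g * (f x : Γ)⁻¹) := by group
        _ = g⁻¹ * (x : Γ) * ((f x : Γ)⁻¹ * g) := by rw [hc]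
        _ = _ := by group
    change g⁻¹ * (x : Γ) * g * ((μ x : ↥D) : Γ)⁻¹ ∈ T
    rw [e]
    refine hsc _ hx _ ?_
    rw [← e]
    exact mul_mem h (inv_mem (hDH (μ x).2))
  let τ : Γ →* ↥D := μ.transfer
  have hτ : ∀ x : ↥H, τ (x : Γ) = (μ x) ^ H.index := transfer_stable' μ key
  have hker : τ.ker = ⊤ := by
    refine hgen _ inferInstance fun t ht => ?_
    rw [MonoidHom.mem_ker]
    have := hτ ⟨t, hTH ht⟩
    have h1 : μ ⟨t, hTH ht⟩ = 1 := huniq _ _ (by simpa using ht)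
    rw [h1, one_pow] at this
    exact this
  rw [eq_bot_iff]
  intro d hd
  have hd1 : μ ⟨d, hDH hd⟩ = ⟨d, hd⟩ := huniq _ _ (by simp [one_mem])
  have h2 := hτ ⟨d, hDH hd⟩
  have h3 : τ d = 1 := by
    rw [← MonoidHom.mem_ker, hker]
    exact mem_top _
  rw [hd1] at h2
  simp only at h2
  rw [h3] at h2
  obtain ⟨k, hk⟩ := hP ⟨d, hd⟩
  have h4 : orderOf (⟨d, hd⟩ : ↥D) ∣ H.index := orderOf_dvd_of_pow_eq_one h2.symm
  have h5 : orderOf (⟨d, hd⟩ : ↥D) ∣ 2 ^ k := orderOf_dvd_of_pow_eq_one hk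
  have hcop : Nat.Coprime (2 ^ k) H.index :=
    Nat.Coprime.pow_left _ ((Nat.Prime.coprime_iff_not_dvd Nat.prime_two).mpr hodd)
  have h6 : orderOf (⟨d, hd⟩ : ↥D) = 1 := Nat.eq_one_of_dvd_coprimes hcop h5 h4
  rw [orderOf_eq_one_iff] at h6
  rw [mem_bot]
  exact congrArg Subtype.val h6

variable {G : Type*} [Group G] [Finite G]

/-- The complementary factor meets the normal closure trivially. -/
theorem inf_normalClosure_eq_bot (S : Sylow 2 G) {S₁ S₂ : Subgroup G} (hprod : IsInternalDirectProduct S₁ S₂ (S : Subgroup G))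
    (hcl₁ : IsStronglyClosed S₁ (S : Subgroup G))
    (hPF : ⁅normalClosure (S₁ : Set G), normalClosure (S₂ : Set G)⁆ = ⊥)
    (htop : normalClosure (S₁ : Set G) ⊔ normalClosure (S₂ : Set G) = ⊤) :
    S₂ ⊓ normalClosure (S₁ : Set G) = ⊥ := by
  classical
  obtain ⟨hS₁, hS₂, hcomm, hdisj, hsup⟩ := hprod
  set N₁ := normalClosure (S₁ : Set G) with hN₁
  set N₂ := normalClosure (S₂ : Set G) with hN₂
  haveI hN₁n : N₁.Normal := normalClosure_normal
  haveI hN₂n : N₂.Normal := normalClosure_normal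
  have hcNN : ∀ a ∈ N₁, ∀ b ∈ N₂, a * b = b * a := by
    intro a ha b hb
    have := commutator_mem_commutator ha hb
    rw [hPF, mem_bot] at this
    exact commutatorElement_eq_one_iff_mul_comm.mp this
  have hSN₁ : S₁ ≤ N₁ := subset_normalClosure
  have hSN₂ : S₂ ≤ N₂ := subset_normalClosure
  have hD : S₂.subgroupOf N₁ = ⊥ := by
    refine central_factor_trivial (H := (S : Subgroup G).subgroupOf N₁) (T := S₁.subgroupOf N₁) ?_ ?_ ?_ ?_ ?_ ?_ ?_ ?_
    · obtain ⟨Q, hQ⟩ := Cfsg.Agent.Lib.Basic.SylowUtil.exists_sylow_inf_normal S N₁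
      have h1 : (Q : Subgroup ↥N₁) = (S : Subgroup G).subgroupOf N₁ := by
        have h2 : (Q : Subgroup ↥N₁) = ((Q : Subgroup ↥N₁).map N₁.subtype).subgroupOf N₁ :=
          (Subgroup.comap_map_eq_self_of_injective N₁.subtype_injective _).symm
        rw [h2, hQ]
        ext x
        simp [mem_subgroupOf]
      rw [← h1]
      exact Q.not_dvd_index
    · intro x hx
      exact mem_subgroupOf.mpr (hS₂ (mem_subgroupOf.mp hx))
    · apply le_antisymm
      · refine sup_le ?_ ?_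
        · intro x hx
          exact mem_subgroupOf.mpr (hS₁ (mem_subgroupOf.mp hx))
        · intro x hx
          exact mem_subgroupOf.mpr (hS₂ (mem_subgroupOf.mp hx))
      · intro h hh
        have hhS : (h : G) ∈ S₁ ⊔ S₂ := hsup ▸ mem_subgroupOf.mp hh
        obtain ⟨p, hp, q, hq, e⟩ := mem_sup_comm hcomm hhS
        have hpN : p ∈ N₁ := hSN₁ hp
        have hqN : q ∈ N₁ := by
          have : q = p⁻¹ * (h : G) := by rw [e]; group
          rw [this]
          exact mul_mem (inv_mem hpN) h.2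
        have e' : h = ⟨p, hpN⟩ * ⟨q, hqN⟩ := Subtype.ext e
        rw [e']
        exact mul_mem (mem_sup_left (mem_subgroupOf.mpr hp)) (mem_sup_right (mem_subgroupOf.mpr hq))
    · rw [eq_bot_iff]
      intro x hx
      have h1 : (x : G) ∈ S₁ ⊓ S₂ := Subgroup.mem_inf.mpr
        ⟨mem_subgroupOf.mp (Subgroup.mem_inf.mp hx).1, mem_subgroupOf.mp (Subgroup.mem_inf.mp hx).2⟩
      rw [hdisj, mem_bot] at h1
      rw [mem_bot]
      exact Subtype.ext h1
    · intro d hd g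
      exact Subtype.ext (hcNN _ g.2 _ (hSN₂ (mem_subgroupOf.mp hd)))
    · rintro ⟨d, hd⟩
      obtain ⟨k, hk⟩ := (sylow_isP S) ⟨(d : G), hS₂ (mem_subgroupOf.mp hd)⟩
      refine ⟨k, Subtype.ext (Subtype.ext ?_)⟩
      simpa using congrArg Subtype.val hk
    · intro t ht g hg
      refine mem_subgroupOf.mpr ?_
      exact hcl₁.2 _ (mem_subgroupOf.mp ht) _ (mem_subgroupOf.mp hg)
    · intro K hK hTK
      let K' : Subgroup G := K.map N₁.subtype
      have hK' : K'.Normal := by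
        refine ⟨?_⟩
        rintro _ ⟨y, hy, rfl⟩ g
        have hg : g ∈ N₁ ⊔ N₂ := by rw [htop]; exact mem_top g
        obtain ⟨a, ha, b, hb, rfl⟩ := mem_sup_comm hcNN hg
        have e1 : a * b * (N₁.subtype y) * (a * b)⁻¹ = N₁.subtype (⟨a, ha⟩ * y * ⟨a, ha⟩⁻¹) := by
          have h1 : b * (y : G) = (y : G) * b := (hcNN _ y.2 _ hb).symm
          simp only [Subgroup.coe_subtype, Subgroup.coe_mul, Subgroup.coe_inv, mul_inv_rev]
          calc a * b * (y : G) * (b⁻¹ * a⁻¹) = a * (b * (y : G)) * b⁻¹ * a⁻¹ := by group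
            _ = a * ((y : G) * b) * b⁻¹ * a⁻¹ := by rw [h1]
            _ = a * (y : G) * a⁻¹ := by group
        rw [e1]
        exact ⟨_, hK.conj_mem _ hy _, rfl⟩
      have hle : N₁ ≤ K' := by
        refine normalClosure_le_normal fun s hs => ?_
        exact ⟨⟨s, hSN₁ hs⟩, hTK (mem_subgroupOf.mpr hs), rfl⟩
      rw [eq_top_iff]
      intro x _
      obtain ⟨y, hy, e⟩ := hle x.2
      have : y = x := Subtype.ext e
      rwa [← this]
  rw [eq_bot_iff]
  intro x hx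
  have h1 : (⟨x, (Subgroup.mem_inf.mp hx).2⟩ : ↥N₁) ∈ S₂.subgroupOf N₁ :=
    mem_subgroupOf.mpr (Subgroup.mem_inf.mp hx).1
  rw [hD, mem_bot] at h1
  exact (mem_bot).mpr (congrArg Subtype.val h1)

end Cfsg.Agent.Lib.ProdFusion
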